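import Groth.Agent.Mum71.Trunc
import Mathlib.RingTheory.Flat.Equalizer
import Mathlib.RingTheory.Flat.Stability
import Mathlib.RingTheory.Ideal.Quotient.Operations

/-! Flat complexes and base change of their degree zero cycles. -/

set_option autoImplicit false
set_option linter.style.haveILetI false

universe u

open TensorProduct Function

noncomputable section

namespace Groth.Agent.Hilb75

variable {A : Type u} [CommRing A]

section Flat

variable {P Q R S : Type u} [AddCommGroup P] [Module A P] [AddCommGroup Q] [Module A Q]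
  [AddCommGroup R] [Module A R] [AddCommGroup S] [Module A S]

/-- Exactness with all coefficients. -/
def UEx (e : P →ₗ[A] Q) (d : Q →ₗ[A] R) : Prop :=
  ∀ (M : Type u) [AddCommGroup M] [Module A M], Exact (e.lTensor M) (d.lTensor M)

omit [AddCommGroup S] [Module A S] in
theorem flat_of_pure [Module.Flat A R] (N : Type u) [AddCommGroup N] [Module A N] (f : N →ₗ[A] R)
    (h : ∀ (M : Type u) [AddCommGroup M] [Module A M], Injective (f.lTensor M)) : Module.Flat A N := by
  rw [Module.Flat.iff_rTensor_preserves_injective_linearMap]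
  intro M M' _ _ _ _ g hg
  refine Injective.of_comp (f := f.lTensor M') ?_
  rw [← LinearMap.coe_comp, LinearMap.lTensor_comp_rTensor, ← LinearMap.rTensor_comp_lTensor, LinearMap.coe_comp]
  exact (Module.Flat.rTensor_preserves_injective_linearMap g hg).comp (h M)

theorem flat_coker_of_uEx [Module.Flat A S] (d : Q →ₗ[A] R) (d' : R →ₗ[A] S) (hu : UEx d d') :
    Module.Flat A (R ⧸ LinearMap.range d) := by
  have h0 : d' ∘ₗ d = 0 := LinearMap.ext fun q => by
    have h := (hu A).apply_apply_eq_zero ((1 : A) ⊗ₜ[A] q)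
    simpa using congrArg (TensorProduct.lid A S) h
  have hle : LinearMap.range d ≤ LinearMap.ker d' := by
    rw [LinearMap.range_le_ker_iff]; exact h0
  refine flat_of_pure (R := S) _ ((LinearMap.range d).liftQ d' hle) fun M _ _ => ?_
  refine (injective_iff_map_eq_zero _).2 fun z hz => ?_
  obtain ⟨y, rfl⟩ := LinearMap.lTensor_surjective M (Submodule.mkQ_surjective (LinearMap.range d)) z
  rw [← LinearMap.comp_apply, ← LinearMap.lTensor_comp, Submodule.liftQ_mkQ] at hz
  obtain ⟨x, rfl⟩ := ((hu M) y).1 hz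
  rw [← LinearMap.comp_apply, ← LinearMap.lTensor_comp,
    show (LinearMap.range d).mkQ ∘ₗ d = 0 from LinearMap.range_le_ker_iff.1 (by rw [Submodule.ker_mkQ]),
    LinearMap.lTensor_zero, LinearMap.zero_apply]

variable (d : Q →ₗ[A] R)

theorem pure_range [Module.Flat A (R ⧸ LinearMap.range d)] (M : Type u) [AddCommGroup M] [Module A M] :
    Injective ((LinearMap.range d).subtype.lTensor M) :=
  LinearMap.lTensor_injective_of_exact_of_flat (LinearMap.range d).mkQ (Submodule.mkQ_surjective _)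
    (LinearMap.range d).subtype (Submodule.subtype_injective _)
    (LinearMap.exact_subtype_mkQ (LinearMap.range d)) M

theorem pure_ker [Module.Flat A R] [Module.Flat A (R ⧸ LinearMap.range d)] (M : Type u) [AddCommGroup M]
    [Module A M] : Injective ((LinearMap.ker d).subtype.lTensor M) := by
  haveI : Module.Flat A (LinearMap.range d) :=
    flat_of_pure (R := R) _ (LinearMap.range d).subtype fun M _ _ => pure_range d M
  exact LinearMap.lTensor_injective_of_exact_of_flat d.rangeRestrict d.surjective_rangeRestrict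
    (LinearMap.ker d).subtype (Submodule.subtype_injective _)
    (fun x => by simp [Subtype.ext_iff]) M

theorem flat_ker [Module.Flat A Q] [Module.Flat A R] [Module.Flat A (R ⧸ LinearMap.range d)] :
    Module.Flat A (LinearMap.ker d) :=
  flat_of_pure (R := Q) _ (LinearMap.ker d).subtype fun M _ _ => pure_ker d M

theorem exact_ker [Module.Flat A (R ⧸ LinearMap.range d)] (M : Type u) [AddCommGroup M]
    [Module A M] : Exact ((LinearMap.ker d).subtype.lTensor M) (d.lTensor M) := by
  have h1 : Exact ((LinearMap.ker d).subtype.lTensor M) (d.rangeRestrict.lTensor M) :=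
    lTensor_exact M (fun x => by simp [Subtype.ext_iff]) d.surjective_rangeRestrict
  intro y
  rw [← h1 y]
  have hd : d.lTensor M y = (LinearMap.range d).subtype.lTensor M (d.rangeRestrict.lTensor M y) := by
    rw [← LinearMap.comp_apply, ← LinearMap.lTensor_comp]
    rfl
  rw [hd]
  exact ⟨fun h => pure_range d M (h.trans (map_zero _).symm), fun h => by rw [h, map_zero]⟩

theorem uEx_of_exact (e : P →ₗ[A] Q) (hed : LinearMap.range e = LinearMap.ker d)
    [Module.Flat A (R ⧸ LinearMap.range d)] : UEx e d := by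
  intro M _ _ y
  have hcod : ∀ x, e x ∈ LinearMap.ker d := fun x => hed ▸ LinearMap.mem_range_self e x
  let e' := e.codRestrict (LinearMap.ker d) hcod
  have hs : Surjective e' := fun z => by
    obtain ⟨x, hx⟩ : (z : Q) ∈ LinearMap.range e := by rw [hed]; exact z.2
    exact ⟨x, Subtype.ext hx⟩
  rw [exact_ker d M y]
  have he : e.lTensor M = (LinearMap.ker d).subtype.lTensor M ∘ₗ e'.lTensor M := by
    rw [← LinearMap.lTensor_comp, LinearMap.subtype_comp_codRestrict]
  constructor
  · rintro ⟨w, rfl⟩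
    obtain ⟨x, rfl⟩ := LinearMap.lTensor_surjective M hs w
    exact ⟨x, by rw [he]; rfl⟩
  · rintro ⟨x, rfl⟩
    exact ⟨e'.lTensor M x, by rw [he]; rfl⟩

/-- Nakayama: exactness at the closed fibres gives exactness. -/
theorem range_eq_ker_of_fibre (e : P →ₗ[A] Q) (hde : d ∘ₗ e = 0) [Module.Flat A R]
    [Module.Flat A (R ⧸ LinearMap.range d)]
    [Module.Finite A (LinearMap.ker d ⧸ (LinearMap.range e).comap (LinearMap.ker d).subtype)]
    (h : ∀ m : Ideal A, m.IsMaximal → Exact (e.lTensor (A ⧸ m)) (d.lTensor (A ⧸ m))) :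
    LinearMap.range e = LinearMap.ker d := by
  refine le_antisymm (LinearMap.range_le_ker_iff.2 hde) fun q hq => ?_
  let e' := e.codRestrict (LinearMap.ker d) fun x => LinearMap.congr_fun hde x
  let π := ((LinearMap.range e).comap (LinearMap.ker d).subtype).mkQ
  haveI : Subsingleton (LinearMap.ker d ⧸ (LinearMap.range e).comap (LinearMap.ker d).subtype) := by
    refine Mum71.subsingleton_of_forall_quotient_tensor (A := A) fun m hm => ?_
    haveI : Subsingleton ((A ⧸ m) ⊗[A] (LinearMap.ker d ⧸ (LinearMap.range e).comap (LinearMap.ker d).subtype)) := by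
      refine subsingleton_of_forall_eq 0 fun z => ?_
      obtain ⟨w, rfl⟩ := LinearMap.lTensor_surjective (A ⧸ m) (Submodule.mkQ_surjective _ : Surjective π) z
      obtain ⟨x, hx⟩ := (h m hm _).1 ((exact_ker d (A ⧸ m)).apply_apply_eq_zero w)
      have hw : e'.lTensor (A ⧸ m) x = w := pure_ker d (A ⧸ m) (by
        rw [← LinearMap.comp_apply, ← LinearMap.lTensor_comp, show (LinearMap.ker d).subtype ∘ₗ e' = e from rfl]
        exact hx)
      rw [← hw, ← LinearMap.comp_apply, ← LinearMap.lTensor_comp,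
        show π ∘ₗ e' = 0 from LinearMap.ext fun x =>
          (Submodule.Quotient.mk_eq_zero _).2 (show e x ∈ LinearMap.range e from ⟨x, rfl⟩),
        LinearMap.lTensor_zero, LinearMap.zero_apply]
    exact (TensorProduct.comm A _ (A ⧸ m)).toEquiv.subsingleton
  exact ((Submodule.Quotient.mk_eq_zero ((LinearMap.range e).comap (LinearMap.ker d).subtype)).1
    (Subsingleton.elim (π ⟨q, hq⟩) 0) :)

end Flat

section Chain

variable {X : ℕ → Type u} [∀ p, AddCommGroup (X p)] [∀ p, Module A (X p)] (d : ∀ p, X p →ₗ[A] X (p + 1))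

/-- A flat sequence exact in high degrees with all coefficients and exact elsewhere at every closed fibre. -/
theorem uEx_of_fibre [∀ p, Module.Flat A (X p)] (hd : ∀ p, d (p + 1) ∘ₗ d p = 0) (N : ℕ)
    (hN : ∀ p, N ≤ p → UEx (d p) (d (p + 1)))
    (hfin : ∀ p, Module.Finite A (LinearMap.ker (d (p + 1)) ⧸
      (LinearMap.range (d p)).comap (LinearMap.ker (d (p + 1))).subtype))
    (hfib : ∀ (p : ℕ) (m : Ideal A), m.IsMaximal → Exact ((d p).lTensor (A ⧸ m)) ((d (p + 1)).lTensor (A ⧸ m))) :
    ∀ p, UEx (d p) (d (p + 1)) := by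
  suffices h : ∀ k p, N ≤ p + k → UEx (d p) (d (p + 1)) from fun p => h N p (Nat.le_add_left _ _)
  intro k
  induction k with
  | zero => exact hN
  | succ k ih =>
    intro p hp
    haveI : Module.Flat A (X (p + 1 + 1) ⧸ LinearMap.range (d (p + 1))) :=
      flat_coker_of_uEx _ _ (ih (p + 1) (by omega))
    haveI := hfin p
    exact uEx_of_exact _ _ (range_eq_ker_of_fibre (d (p + 1)) (d p) (hd p) (hfib p))

/-- An exact flat sequence which is universally exact in high degrees is universally exact. -/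
theorem uEx_of_exact_seq [∀ p, Module.Flat A (X p)] (N : ℕ)
    (hN : ∀ p, N ≤ p → UEx (d p) (d (p + 1))) (hex : ∀ p, Exact (d p) (d (p + 1))) :
    ∀ p, UEx (d p) (d (p + 1)) := by
  suffices h : ∀ k p, N ≤ p + k → UEx (d p) (d (p + 1)) from fun p => h N p (Nat.le_add_left _ _)
  intro k
  induction k with
  | zero => exact hN
  | succ k ih =>
    intro p hp
    haveI : Module.Flat A (X (p + 1 + 1) ⧸ LinearMap.range (d (p + 1))) :=
      flat_coker_of_uEx _ _ (ih (p + 1) (by omega))
    exact uEx_of_exact _ _ (LinearMap.exact_iff.1 (hex p)).symm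

end Chain

section KerBC

variable {Q R : Type u} [AddCommGroup Q] [Module A Q] [AddCommGroup R] [Module A R] (d : Q →ₗ[A] R)
  (B : Type u) [CommRing B] [Algebra A B]

/-- Cycles tensored with `B` to cycles of the base change. -/
def kerBC : B ⊗[A] LinearMap.ker d →ₗ[B] LinearMap.ker (d.baseChange B) :=
  ((LinearMap.ker d).subtype.baseChange B).codRestrict _ fun x => by
    rw [LinearMap.mem_ker, ← LinearMap.comp_apply, ← LinearMap.baseChange_comp,
      show d ∘ₗ (LinearMap.ker d).subtype = 0 from LinearMap.ext fun w => w.2, LinearMap.baseChange_zero,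
      LinearMap.zero_apply]

theorem coe_kerBC (x : B ⊗[A] LinearMap.ker d) : (kerBC d B x : B ⊗[A] Q) = (LinearMap.ker d).subtype.baseChange B x :=
  rfl

theorem bijective_kerBC_of (h1 : Injective ((LinearMap.ker d).subtype.lTensor B))
    (h2 : Exact ((LinearMap.ker d).subtype.lTensor B) (d.lTensor B)) : Bijective (kerBC d B) :=
  ⟨fun a b hab => h1 (congrArg Subtype.val hab :), fun z => by
    obtain ⟨x, hx⟩ := (h2 z.1).1 z.2
    exact ⟨x, Subtype.ext hx⟩⟩

theorem bijective_kerBC_of_flat [Module.Flat A B] : Bijective (kerBC d B) :=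
  bijective_kerBC_of d B (Module.Flat.lTensor_preserves_injective_linearMap _ (Submodule.subtype_injective _))
    (Module.Flat.lTensor_exact B (LinearMap.exact_subtype_ker_map d))

theorem bijective_kerBC_of_flat_coker [Module.Flat A R] [Module.Flat A (R ⧸ LinearMap.range d)] :
    Bijective (kerBC d B) :=
  bijective_kerBC_of d B (pure_ker d B) (exact_ker d B)

variable (C : Type u) [CommRing C] [Algebra A C] [Algebra B C] [IsScalarTower A B C]

theorem cancel_kerBC (z : C ⊗[B] (B ⊗[A] LinearMap.ker d)) :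
    (kerBC d C (AlgebraTensorModule.cancelBaseChange A B C C (LinearMap.ker d) z) : C ⊗[A] Q) =
      AlgebraTensorModule.cancelBaseChange A B C C Q (kerBC (d.baseChange B) C ((kerBC d B).baseChange C z)) := by
  induction z with
  | zero => simp only [map_zero, Submodule.coe_zero]
  | add x y hx hy => simp only [map_add, Submodule.coe_add, hx, hy]
  | tmul c y =>
    induction y with
    | zero => simp only [tmul_zero, map_zero, Submodule.coe_zero]
    | add x y hx hy => simp only [tmul_add, map_add, Submodule.coe_add, hx, hy]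
    | tmul b q => simp [coe_kerBC, AlgebraTensorModule.cancelBaseChange_tmul]

theorem bijective_kerBC_trans (h1 : Bijective (kerBC d B)) (h2 : Bijective (kerBC (d.baseChange B) C)) :
    Bijective (kerBC d C) := by
  let c1 := AlgebraTensorModule.cancelBaseChange A B C C (LinearMap.ker d)
  let c2 := AlgebraTensorModule.cancelBaseChange A B C C Q
  let c3 := AlgebraTensorModule.cancelBaseChange A B C C R
  have hnat : ∀ z : C ⊗[B] (B ⊗[A] Q), d.baseChange C (c2 z) = c3 ((d.baseChange B).baseChange C z) := fun z => by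
    induction z with
    | zero => simp only [map_zero]
    | add x y hx hy => simp only [map_add, hx, hy]
    | tmul c y =>
      induction y with
      | zero => simp only [tmul_zero, map_zero]
      | add x y hx hy => simp only [tmul_add, map_add, hx, hy]
      | tmul b q => simp [c2, c3, AlgebraTensorModule.cancelBaseChange_tmul]
  have hval := cancel_kerBC d B C
  have hg : Bijective ((kerBC d B).baseChange C) :=
    (TensorProduct.AlgebraTensorModule.congr (LinearEquiv.refl C C) (LinearEquiv.ofBijective _ h1)).bijective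
  refine ⟨fun a b hab => ?_, fun y => ?_⟩
  · obtain ⟨a, rfl⟩ := c1.surjective a
    obtain ⟨b, rfl⟩ := c1.surjective b
    have h := congrArg Subtype.val hab
    rw [hval, hval] at h
    exact congrArg c1 (hg.1 (h2.1 (Subtype.ext (c2.injective h))))
  · have hy : c2.symm y.1 ∈ LinearMap.ker ((d.baseChange B).baseChange C) := by
      refine c3.injective ?_
      rw [← hnat, map_zero, LinearEquiv.apply_symm_apply]
      exact y.2
    obtain ⟨w, hw⟩ := h2.2 ⟨_, hy⟩
    obtain ⟨z, rfl⟩ := hg.2 w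
    exact ⟨c1 z, Subtype.ext (by rw [hval, hw]; exact c2.apply_symm_apply y.1)⟩

end KerBC

section Quotient

variable {Q R S K₀ K₁ K₂ K₃ : Type u} [AddCommGroup Q] [Module A Q] [AddCommGroup R] [Module A R]
  [AddCommGroup S] [Module A S] [AddCommGroup K₁] [Module A K₁] [AddCommGroup K₂] [Module A K₂]
  [AddCommGroup K₃] [Module A K₃] [AddCommGroup K₀] [Module A K₀] {m : ℕ} (a : Fin m → A)

omit [AddCommGroup R] [Module A R] in
theorem exists_sum_smul (x : Q) (h : x ∈ Ideal.span (Set.range a) • (⊤ : Submodule A Q)) :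
    ∃ v : Fin m → Q, ∑ j, a j • v j = x := by
  refine Submodule.smul_induction_on h (fun r hr q _ => ?_) (fun x y ⟨v, hv⟩ ⟨w, hw⟩ => ⟨v + w, ?_⟩)
  · obtain ⟨c, rfl⟩ := Ideal.mem_span_range_iff_exists_fun.1 hr
    refine ⟨fun j => c j • q, ?_⟩
    rw [Finset.sum_smul]
    exact Finset.sum_congr rfl fun j _ => by rw [smul_smul, mul_comm]
  · simp only [Pi.add_apply, smul_add, Finset.sum_add_distrib, hv, hw]

/-- Cycles modulo an ideal, from the vanishing for the module of relations between generators. -/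
theorem bijective_kerBC_quotient (d₀ : Q →ₗ[A] R) (d₁ : R →ₗ[A] S) (h01 : Exact d₀ d₁)
    (k₀ : K₀ →ₗ[A] K₁) (k₁ : K₁ →ₗ[A] K₂) (k₂ : K₂ →ₗ[A] K₃) (hk01 : Exact k₀ k₁) (hk12 : Exact k₁ k₂)
    (κ₀ : K₀ →ₗ[A] Fin m → Q) (κ₁ : K₁ →ₗ[A] Fin m → R) (κ₂ : K₂ →ₗ[A] Fin m → S)
    (hr₁ : ∀ w : Fin m → R, ∑ j, a j • w j = 0 → w ∈ LinearMap.range κ₁)
    (hr₂ : ∀ w : Fin m → S, ∑ j, a j • w j = 0 → w ∈ LinearMap.range κ₂)
    (hs₀ : ∀ k, ∑ j, a j • κ₀ k j = 0) (hs₁ : ∀ k, ∑ j, a j • κ₁ k j = 0) (hinj₂ : Injective κ₂)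
    (hz₂ : ∀ (k : K₂) , (∃ w : Fin m → R, ∀ j, κ₂ k j = d₁ (w j)) → k₂ k = 0)
    (hc₀ : ∀ k j, κ₁ (k₀ k) j = d₀ (κ₀ k j)) (hc₁ : ∀ k j, κ₂ (k₁ k) j = d₁ (κ₁ k j)) :
    Bijective (kerBC d₀ (A ⧸ Ideal.span (Set.range a))) := by
  set I := Ideal.span (Set.range a)
  have hq : ∀ {M : Type u} [AddCommGroup M] [Module A M] (x : M),
      (1 : A ⧸ I) ⊗ₜ[A] x = 0 ↔ x ∈ I • (⊤ : Submodule A M) := fun {M} _ _ x => by
    rw [← Submodule.Quotient.mk_eq_zero, ← (TensorProduct.quotTensorEquivQuotSMul M I).map_eq_zero_iff,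
      ← map_one (Ideal.Quotient.mk I), TensorProduct.quotTensorEquivQuotSMul_mk_tmul, one_smul]
  have hmem : ∀ {M : Type u} [AddCommGroup M] [Module A M] (v : Fin m → M),
      ∑ j, a j • v j ∈ I • (⊤ : Submodule A M) := fun v => Submodule.sum_mem _ fun j _ =>
    Submodule.smul_mem_smul (Ideal.subset_span ⟨j, rfl⟩) trivial
  have hsurj : ∀ {M : Type u} [AddCommGroup M] [Module A M] (z : (A ⧸ I) ⊗[A] M), ∃ x : M, (1 : A ⧸ I) ⊗ₜ[A] x = z :=
    fun z => TensorProduct.mk_surjective A _ (A ⧸ I) Ideal.Quotient.mk_surjective z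
  refine ⟨(injective_iff_map_eq_zero _).2 fun w hw => ?_, fun z => ?_⟩
  · obtain ⟨x, rfl⟩ := hsurj w
    have h : (1 : A ⧸ I) ⊗ₜ[A] (x : Q) = 0 := congrArg Subtype.val hw
    obtain ⟨v, hv⟩ := exists_sum_smul a _ ((hq _).1 h)
    obtain ⟨l, hl⟩ := hr₁ (fun j => d₀ (v j)) (by
      simp only [← map_smul, ← map_sum, hv]; exact x.2)
    have hl0 : k₁ l = 0 := hinj₂ (funext fun j => by
      rw [hc₁, hl, map_zero, Pi.zero_apply]; exact h01.apply_apply_eq_zero (v j))
    obtain ⟨l₀, rfl⟩ := (hk01 l).1 hl0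
    let v' : Fin m → LinearMap.ker d₀ := fun j => ⟨v j - κ₀ l₀ j, by
      rw [LinearMap.mem_ker, map_sub, ← hc₀, hl, sub_self]⟩
    refine (hq x).2 ?_
    have hx : x = ∑ j, a j • v' j := Subtype.ext (by
      rw [Submodule.coe_sum]
      simp only [Submodule.coe_smul, v', smul_sub, Finset.sum_sub_distrib, hs₀ l₀, sub_zero, hv])
    rw [hx]
    exact hmem v'
  · obtain ⟨z, hz⟩ := z
    obtain ⟨c, rfl⟩ := hsurj z
    rw [LinearMap.mem_ker, LinearMap.baseChange_tmul, hq] at hz
    obtain ⟨w, hw⟩ := exists_sum_smul a _ hz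
    obtain ⟨k, hk⟩ := hr₂ (fun j => d₁ (w j)) (by
      simp only [← map_smul, ← map_sum, hw]; exact h01.apply_apply_eq_zero c)
    obtain ⟨k₁', rfl⟩ := (hk12 k).1 (hz₂ k ⟨w, congrFun hk⟩)
    have hcyc : ∀ j, d₁ (w j - κ₁ k₁' j) = 0 := fun j => by
      rw [map_sub, ← hc₁, hk, sub_self]
    choose v hv using fun j => (h01 _).1 (hcyc j)
    have h1 : ∑ j, a j • κ₁ k₁' j = 0 := hs₁ k₁'
    refine ⟨(1 : A ⧸ I) ⊗ₜ[A] ⟨c - ∑ j, a j • v j, ?_⟩, Subtype.ext ?_⟩
    · rw [LinearMap.mem_ker, map_sub, map_sum]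
      simp only [map_smul, hv, smul_sub, Finset.sum_sub_distrib, hw, h1, sub_zero, sub_self]
    · show (1 : A ⧸ I) ⊗ₜ[A] (c - ∑ j, a j • v j) = _
      rw [tmul_sub, (hq _).2 (hmem v), sub_zero]

end Quotient

end Groth.Agent.Hilb75
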