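import Groth.Agent.Hilb75.Alg
import Groth.Agent.Mum71.SquareLin

/-! Linear facts about the Čech sequence of a module over an affine base. -/

set_option autoImplicit false
set_option maxSynthPendingDepth 6
set_option synthInstance.maxHeartbeats 200000
set_option linter.style.haveILetI false
set_option backward.isDefEq.respectTransparency.types false

universe u

noncomputable section

open CategoryTheory CategoryTheory.Limits AlgebraicGeometry TopologicalSpace Opposite TensorProduct Function

namespace Groth.Agent.Hilb75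

open Mum71 Coh69 CechComp71 QC70 QCPull72 FF71

variable {A : Type u} [CommRing A] {X : Scheme.{u}} [X.Over (Spec (CommRingCat.of A))]
  {ι : Type u} {U : ι → X.Opens} {G : X.Modules}

theorem cdL_comp (p : ℕ) : cdL A U G (p + 1) ∘ₗ cdL A U G p = 0 :=
  LinearMap.ext fun c => cd_cd (P := G.presheaf) U p c

section HH

variable [G.IsQuasicoherent] (hU : ⨆ i, U i = ⊤) (hU' : ∀ (n : ℕ) (i : Fin (n + 1) → ι), IsAffineOpen (cOpen U i))

variable (A) in
/-- Classes of cycles. -/
def clsL (p : ℕ) : LinearMap.ker (cdL A U G p) →ₗ[A] Coh.HH X G p where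
  toFun z := toHH U hU G p ⟨z.1, z.2⟩
  map_add' z z' := (congrArg (toHH U hU G p) (Subtype.ext rfl)).trans (map_add (toHH U hU G p) _ _)
  map_smul' a z := by
    rw [RingHom.id_apply, ← toHH_smulZ]
    congr 1

include hU' in
theorem clsL_surjective (p : ℕ) : Surjective (clsL A (G := G) hU p) := fun h => by
  obtain ⟨w, rfl⟩ := toHH_surjective hU (acyclicOn_of_isAffineOpen _ G hU') p h
  exact ⟨⟨w.1, w.2⟩, rfl⟩

theorem clsL_zero_bijective : Bijective (clsL A (G := G) hU 0) := by
  refine ⟨fun z z' h => Subtype.ext (congrArg Subtype.val ((toHH_zero_bijective U hU G).1 h) :), fun h => ?_⟩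
  obtain ⟨w, rfl⟩ := (toHH_zero_bijective U hU G).2 h
  exact ⟨⟨w.1, w.2⟩, rfl⟩

include hU' in
theorem ker_clsL (p : ℕ) : LinearMap.ker (clsL A (G := G) hU (p + 1)) =
    (LinearMap.range (cdL A U G p)).comap (LinearMap.ker (cdL A U G (p + 1))).subtype := by
  ext z
  rw [LinearMap.mem_ker, Submodule.mem_comap, LinearMap.mem_range]
  exact toHH_eq_zero_iff hU (acyclicOn_of_isAffineOpen _ G hU') p _

/-- Higher cohomology from the sequence. -/
def hhEquiv (p : ℕ) :
    (LinearMap.ker (cdL A U G (p + 1)) ⧸ (LinearMap.range (cdL A U G p)).comap (LinearMap.ker (cdL A U G (p + 1))).subtype)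
      ≃ₗ[A] Coh.HH X G (p + 1) :=
  (Submodule.quotEquivOfEq _ _ (ker_clsL hU hU' p).symm).trans
    ((clsL A hU (p + 1)).quotKerEquivOfSurjective (clsL_surjective hU hU' (p + 1)))

include hU hU' in
theorem finite_quot [IsNoetherianRing A] [IsProper (X ↘ Spec (CommRingCat.of A))] (hG : Coh.IsCoh G) (p : ℕ) :
    Module.Finite A (LinearMap.ker (cdL A U G (p + 1)) ⧸
      (LinearMap.range (cdL A U G p)).comap (LinearMap.ker (cdL A U G (p + 1))).subtype) :=
  haveI := Serre71.finite_hh_of_isProper A G hG (p + 1)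
  Module.Finite.equiv (hhEquiv hU hU' p).symm

include hU hU' in
theorem finite_ker [IsNoetherianRing A] [IsProper (X ↘ Spec (CommRingCat.of A))] (hG : Coh.IsCoh G) :
    Module.Finite A (LinearMap.ker (cdL A U G 0)) :=
  haveI := Serre71.finite_hh_of_isProper A G hG 0
  Module.Finite.equiv (LinearEquiv.ofBijective _ (clsL_zero_bijective (A := A) (G := G) hU)).symm

include hU hU' in
theorem exact_iff_subsingleton_hh (p : ℕ) :
    Exact (cdL A U G p) (cdL A U G (p + 1)) ↔ Subsingleton (Coh.HH X G (p + 1)) := by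
  constructor
  · intro h
    haveI : Subsingleton (LinearMap.ker (cdL A U G (p + 1)) ⧸
        (LinearMap.range (cdL A U G p)).comap (LinearMap.ker (cdL A U G (p + 1))).subtype) :=
      Submodule.Quotient.subsingleton_iff.2 (eq_top_iff.2 fun z _ => (h z.1).1 z.2)
    exact (hhEquiv (A := A) (G := G) hU hU' p).symm.toEquiv.subsingleton
  · intro h x
    refine ⟨fun hx => ?_, ?_⟩
    · have hz : clsL A hU (p + 1) ⟨x, hx⟩ = 0 := Subsingleton.elim _ _
      have hm : (⟨x, hx⟩ : LinearMap.ker (cdL A U G (p + 1))) ∈ LinearMap.ker (clsL A hU (p + 1)) := hz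
      rw [ker_clsL hU hU'] at hm
      exact hm
    · rintro ⟨r, rfl⟩
      exact LinearMap.congr_fun (cdL_comp p) r

include hU hU' in
theorem exists_uEx [Finite ι] [IsSeparated (X ↘ Spec (CommRingCat.of A))] (p : ℕ) (hp : Nat.card ι ≤ p) :
    UEx (cdL A U G p) (cdL A U G (p + 1)) := by
  intro M _ _ x
  refine ⟨fun hx => ?_, ?_⟩
  · have hA : ∀ i, IsAffineOpen (U i) := fun i => by
      have h := hU' 0 (fun _ => i)
      rwa [show cOpen U (fun _ : Fin 1 => i) = U i from
        le_antisymm (cOpen_le U _ 0) (le_cOpen U fun _ => le_rfl)] at h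
    have h := uexact_chCx (A := A) G hU hU' hA ((p : ℤ) + 1) (by omega) M
    rw [show (p : ℤ) + 1 - 1 = (p : ℤ) by omega, chCx_d_ofNat, chCx_d] at h
    obtain ⟨w, hw⟩ := h (TensorProduct.comm A M (Ch U G (p + 1)) x) (by
      show (cdL A U G (p + 1)).rTensor M (TensorProduct.comm A M _ x) = 0
      rw [LinearMap.rTensor_comm, hx, map_zero])
    refine ⟨(TensorProduct.comm A M _).symm w, (TensorProduct.comm A M _).injective ?_⟩
    refine Eq.trans ?_ hw
    rw [← LinearMap.rTensor_comm, LinearEquiv.apply_symm_apply]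
    rfl
  · rintro ⟨w, rfl⟩
    rw [← LinearMap.comp_apply, ← LinearMap.lTensor_comp, cdL_comp, LinearMap.lTensor_zero, LinearMap.zero_apply]

end HH

section BaseChange

variable {B : Type u} [CommRing B] [Algebra A B] {X' : Scheme.{u}} [X'.Over (Spec (CommRingCat.of B))]
  {g : X' ⟶ X}
  (hsq : IsPullback g (X' ↘ Spec (CommRingCat.of B)) (X ↘ Spec (CommRingCat.of A))
    (Spec.map (CommRingCat.ofHom (algebraMap A B))))
  [G.IsQuasicoherent] [Finite ι]
  (hU' : ∀ (n : ℕ) (i : Fin (n + 1) → ι), IsAffineOpen (cOpen U i))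

include hsq hU' in
/-- The sequence of a base change. -/
theorem exists_bc_equiv :
    ∃ E : ∀ p, B ⊗[A] Ch U G p ≃ₗ[B] Ch (preU g U) ((Scheme.Modules.pullback g).obj G) p,
      (∀ p x, E (p + 1) ((cdL A U G p).baseChange B x) =
        cdL B (preU g U) ((Scheme.Modules.pullback g).obj G) p (E p x)) ∧
      ∀ p x i, E p ((1 : B) ⊗ₜ x) i = unitSec g G (cOpen_preU g i).le (x i) := by
  classical
  letI := fun p : ℕ => Fintype.ofFinite (Fin (p + 1) → ι)
  choose e he using fun (p : ℕ) (i : Fin (p + 1) → ι) => exists_sq_sections hsq G (hU' p i) (cOpen_preU g i)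
  let E := fun p : ℕ => (TensorProduct.piRight A B B (fun i : Fin (p + 1) → ι => Γ(G, cOpen U i))).trans
    (LinearEquiv.piCongrRight (e p))
  have hE : ∀ p x i, E p ((1 : B) ⊗ₜ x) i = unitSec g G (cOpen_preU g i).le (x i) := fun p x i => by
    simp [E, he]
  refine ⟨E, fun p x => ?_, hE⟩
  induction x with
  | zero => simp only [map_zero]
  | add x y hx hy => simp only [map_add, hx, hy]
  | tmul b c =>
    rw [show b ⊗ₜ[A] c = b • ((1 : B) ⊗ₜ[A] c) by rw [TensorProduct.smul_tmul', smul_eq_mul, mul_one]]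
    simp only [map_smul, LinearMap.baseChange_tmul]
    congr 1
    funext k
    rw [hE, cdL_apply, cdL_apply]
    let u : Γ(G, cOpen U k) →+ Γ((Scheme.Modules.pullback g).obj G, cOpen (preU g U) k) :=
      AddMonoidHom.mk' (unitSec g G (cOpen_preU g k).le) (LimTop61.unitSec_add g G (cOpen_preU g k).le)
    show u _ = _
    rw [map_sum]
    refine Finset.sum_congr rfl fun j _ => ?_
    rw [map_zsmul, hE]
    congr 1
    exact LimTop61.unitSec_res g G (cOpen_preU g (k ∘ j.succAbove)).le (cOpen_preU g k).le _ _ (c (k ∘ j.succAbove))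

end BaseChange

end Groth.Agent.Hilb75

end
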