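import Groth.Agent.Hilb75.Uniform
import Groth.Agent.Univ70.Main
import Groth.Agent.Mero90.Frames
import Groth.Agent.FGA29.EulerLC

/-! Euler characteristics of the fibres of the twists as fibre ranks of the cycles. -/

set_option autoImplicit false
set_option maxSynthPendingDepth 6
set_option synthInstance.maxHeartbeats 200000
set_option linter.style.haveILetI false
set_option backward.isDefEq.respectTransparency.types false

universe u

noncomputable section

open CategoryTheory CategoryTheory.Limits AlgebraicGeometry TopologicalSpace Opposite TensorProduct Function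
open Groth.Agent.Var76.LineBundle

namespace Groth.Agent.Hilb75

open Mum71 Coh69 CechComp71 FF71

/-- Frames and affine opens with affine intersections. -/
theorem exists_goodCover {X : Scheme.{u}} [CompactSpace X] [X.IsSeparated] {L : X.Modules}
    (hL : PicF.IsInvertible L) : ∃ (ι : Type u) (_ : Finite ι) (U : ι → X.Opens), GoodCover U L := by
  choose W hxW _ hfr using fun x => Mero90.exists_affine_frame hL x ⊤ trivial
  obtain ⟨t, ht⟩ := isCompact_univ.elim_finite_subcover (fun x => ((W x).1 : Set X)) (fun x => (W x).1.2)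
    fun x _ => Set.mem_iUnion.2 ⟨x, hxW x⟩
  refine ⟨t, inferInstance, fun x => (W x.1).1, ⟨top_le_iff.1 fun y _ => ?_,
    Univ70.isAffineOpen_cOpen (fun V V' hV hV' => hV.inf hV') _ fun x : t => (W x.1).2,
    fun x => hfr x.1⟩⟩
  obtain ⟨x, hx, hy⟩ := Set.mem_iUnion₂.1 (ht (Set.mem_univ y))
  exact Opens.mem_iSup.2 ⟨⟨x, hx⟩, hy⟩

variable {A : Type u} [CommRing A] {X : Scheme.{u}} [X.Over (Spec (CommRingCat.of A))]
  {ι : Type u} [Finite ι] {U : ι → X.Opens}

section Field

variable {K : Type u} [Field K] [Algebra A K] {X' : Scheme.{u}} [X'.Over (Spec (CommRingCat.of K))] {g : X' ⟶ X}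
  (hsq : IsPullback g (X' ↘ Spec (CommRingCat.of K)) (X ↘ Spec (CommRingCat.of A))
    (Spec.map (CommRingCat.ofHom (algebraMap A K))))
  (hU : ⨆ i, U i = ⊤) (hU' : ∀ (n : ℕ) (i : Fin (n + 1) → ι), IsAffineOpen (cOpen U i))

include hsq hU hU' in
/-- Where the cycles commute with the field the Euler characteristic is the rank of the cycles. -/
theorem euler_eq_finrank (G : X.Modules) [G.IsQuasicoherent] (hG : GoodAt A U G K) :
    Curv2.euler K X' ((Scheme.Modules.pullback g).obj G) =
      (Module.finrank K (K ⊗[A] LinearMap.ker (cdL A U G 0)) : ℤ) := by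
  haveI := QCPull72.isQuasicoherent_pullback g G
  haveI := isAffineHom_of_sq hsq
  have hV : ⨆ i, preU g U i = ⊤ := by
    show ⨆ i, g ⁻¹ᵁ U i = ⊤
    rw [← Scheme.Hom.preimage_iSup, hU]
    rfl
  have hV' : ∀ (n : ℕ) (i : Fin (n + 1) → ι), IsAffineOpen (cOpen (preU g U) i) := fun n i => by
    rw [cOpen_preU]
    exact (hU' n i).preimage _
  obtain ⟨E, hE, -⟩ := exists_bc_equiv hsq (G := G) hU'
  have hvan : ∀ p, Subsingleton (Coh.HH X' ((Scheme.Modules.pullback g).obj G) (p + 1)) := fun p =>
    (exact_iff_subsingleton_hh hV hV' p).1 (exact_of_equivs (E p).symm (E (p + 1)).symm (E (p + 1 + 1)).symm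
      (fun x => by rw [LinearEquiv.symm_apply_eq, hE, LinearEquiv.apply_symm_apply])
      (fun x => by rw [LinearEquiv.symm_apply_eq, hE, LinearEquiv.apply_symm_apply]) (hG.1 p))
  have h0 : Module.finrank K (Coh.HH X' ((Scheme.Modules.pullback g).obj G) 0) =
      Module.finrank K (K ⊗[A] LinearMap.ker (cdL A U G 0)) :=
    ((LinearEquiv.ofBijective _ hG.2).trans (((E 0).ofSubmodules _ _ (map_ker_eq (E 0) (E 1) (hE 0))).trans
      (LinearEquiv.ofBijective _ (clsL_zero_bijective (A := K) hV)))).finrank_eq.symm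
  unfold Curv2.euler
  rw [finsum_eq_single _ 0 fun i hi => ?_, pow_zero, one_mul, h0]
  obtain ⟨p, rfl⟩ := Nat.exists_eq_succ_of_ne_zero hi
  haveI := hvan p
  rw [Module.finrank_zero_of_subsingleton, Nat.cast_zero, mul_zero]

end Field

/-- Twisted Euler characteristics over a field depend polynomially on the twist. -/
theorem euler_tw_mem_polySub (K : Type u) [Field K] {Y : Scheme.{u}} [Y.Over (Spec (CommRingCat.of K))]
    [IsProper (Y ↘ Spec (CommRingCat.of K))] {F L : Y.Modules} (hF : Coh.IsCoh F) (hL : PicF.IsInvertible L)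
    (D : ℕ) (hD : topologicalKrullDim Y ≤ (D : WithBot ℕ∞)) :
    (fun m : Fin 1 → ℕ => (Curv2.euler K Y (tw F L (m 0)) : ℚ)) ∈ Snapper75.polySub 1 (D + 1) :=
  Snapper75.chi_mem_polySub K (r := 1) (L := fun _ => L) (fun _ => hL) (D + 1) F hF
    (lt_of_le_of_lt ((topologicalKrullDim_subspace_le Y _).trans hD) (by exact_mod_cast Nat.lt_succ_self D))

theorem euler_congr_tw (K : Type u) [Field K] {Y : Scheme.{u}} [Y.Over (Spec (CommRingCat.of K))]
    (g : Y ⟶ X) (F : X.Modules) {L : X.Modules} (hL : PicF.IsInvertible L) (n : ℕ) :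
    Curv2.euler K Y ((Scheme.Modules.pullback g).obj (tw F L n)) =
      Curv2.euler K Y (tw ((Scheme.Modules.pullback g).obj F) ((Scheme.Modules.pullback g).obj L) n) :=
  Crv77.euler_congr (twPullIso g F hL n)

variable [IsNoetherianRing A] [IsProper (X ↘ Spec (CommRingCat.of A))] {F L : X.Modules}
  (hUL : GoodCover U L) (hF : Coh.IsCoh F) (hL : CohB1.IsAmple L)

include hUL hF hL in
/-- The cycles of the large twists compute the Euler characteristics over all fields. -/
theorem exists_cycles_spec : ∃ N, ∀ n, N ≤ n →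
    Module.Finite A (LinearMap.ker (cdL A U (tw F L n) 0)) ∧
    ∀ (K : Type u) [Field K] [Algebra A K], GoodAt A U (tw F L n) K ∧
      ∀ (X' : Scheme.{u}) [X'.Over (Spec (CommRingCat.of K))] (g : X' ⟶ X),
        IsPullback g (X' ↘ Spec (CommRingCat.of K)) (X ↘ Spec (CommRingCat.of A))
          (Spec.map (CommRingCat.ofHom (algebraMap A K))) →
        ∀ x : PrimeSpectrum A, x.asIdeal = RingHom.ker (algebraMap A K) →
          Curv2.euler K X' ((Scheme.Modules.pullback g).obj (tw F L n)) =
            (FCx40.fib (LinearMap.ker (cdL A U (tw F L n) 0)) x : ℤ) := by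
  haveI : IsLocallyNoetherian X := LocallyOfFiniteType.isLocallyNoetherian (X ↘ Spec (CommRingCat.of A))
  obtain ⟨N, hN⟩ := exists_goodAt (A := A) hUL hF hL
  haveI hq : ∀ n, (tw F L n).IsQuasicoherent := fun n => (isCoh_tw hF hL.1 n).1
  refine ⟨N, fun n hn => ⟨finite_ker (A := A) hUL.top hUL.affine (isCoh_tw hF hL.1 n), fun K _ _ => ⟨hN n hn K,
    fun X' _ g hsq x hx => ?_⟩⟩⟩
  rw [euler_eq_finrank hsq hUL.top hUL.affine _ (hN n hn K), FGA29.EulerLC.finrank_tensor_eq_fib K _ x hx]

end Groth.Agent.Hilb75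

end
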