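import Groth.Agent.Mum71.Approx
import Groth.Agent.PicLim95.Basic
import Groth.Agent.LimTop61.AmpleStage
import Groth.Agent.Amp73.QA

/-! Noetherian models of a polarised proper family of finite presentation over an affine base. -/

set_option autoImplicit false
set_option linter.style.haveILetI false
set_option backward.isDefEq.respectTransparency.types false

universe u

noncomputable section

open CategoryTheory CategoryTheory.Limits AlgebraicGeometry TopologicalSpace Opposite

namespace Groth.Agent.Hilb75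

/-- A polarised proper family over an affine scheme with a module of finite presentation comes from one over
a Noetherian ring. -/
theorem exists_polarised_model {A : CommRingCat.{u}} {X : Scheme.{u}} (f : X ⟶ Spec A) [IsProper f]
    [LocallyOfFinitePresentation f] (L : X.Modules) (hL : CohB1.IsAmple L) (F : X.Modules) [F.IsQuasicoherent]
    [CohB1.IsFP F] :
    ∃ (A₀ : CommRingCat.{u}) (_ : IsNoetherianRing A₀) (φ : A₀ ⟶ A) (X₀ : Scheme.{u})
      (f₀ : X₀ ⟶ Spec A₀) (_ : IsProper f₀) (L₀ : X₀.Modules) (_ : CohB1.IsAmple L₀) (F₀ : X₀.Modules)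
      (_ : Coh.IsCoh F₀) (q : X ⟶ X₀), IsPullback q f f₀ (Spec.map φ) ∧
        Nonempty ((Scheme.Modules.pullback q).obj L₀ ≅ L) ∧ Nonempty ((Scheme.Modules.pullback q).obj F₀ ≅ F) := by
  obtain ⟨i, X₀, f₀, F₀, q, h1, h2, h3, hX, h4, h5, ⟨eF⟩⟩ := Stage62.exists_model (A := A) f F
  let D := Stage62.subringSpec (A : Type u)
  let c := Stage62.subringCone (A : Type u)
  have hc : IsLimit c := Stage62.isLimitSubringCone _
  haveI : ∀ j, CompactSpace (D.obj j) := fun j => inferInstanceAs (CompactSpace (Spec _))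
  haveI : ∀ j, QuasiSeparatedSpace (D.obj j) := fun j => inferInstanceAs (QuasiSeparatedSpace (Spec _))
  haveI : @QuasiCompact X₀ (D.obj i) f₀ := h2
  haveI : @QuasiSeparated X₀ (D.obj i) f₀ := h3
  let P := LimTop61.bcDiagram D f₀
  let cP := LimTop61.bcCone D c f₀ q f hX.w
  have hP : IsLimit cP := LimTop61.isLimitBcCone D c hc f₀ q f hX
  haveI : ∀ k, CompactSpace (P.obj k) := fun k =>
    @QuasiCompact.compactSpace_of_compactSpace _ _ (pullback.snd f₀ (D.map k.hom))
      (MorphismProperty.pullback_snd (P := @QuasiCompact) _ _ h2) inferInstance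
  haveI : ∀ k, QuasiSeparatedSpace (P.obj k) := fun k =>
    @quasiSeparatedSpace_of_quasiSeparated _ _ (pullback.snd f₀ (D.map k.hom)) inferInstance
      (MorphismProperty.pullback_snd (P := @QuasiSeparated) _ _ h3)
  -- an invertible stage
  obtain ⟨k, M, hM, ⟨eM⟩⟩ := PicLim95.exists_invertible_stage hP L hL.1
  -- an ample stage
  obtain ⟨l, ψ, hamp⟩ := LimTop61.exists_isAmple_stage hP hM (Amp73.isAmple_of_iso eM.symm hL)
  let q₁ : X ⟶ pullback f₀ (D.map l.hom) := cP.π.app l
  have hq₁ : q₁ ≫ pullback.fst f₀ (D.map l.hom) = q := pullback.lift_fst _ _ _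
  have hX₁ : IsPullback q₁ f (pullback.snd f₀ (D.map l.hom)) (c.π.app l.left) := by
    refine IsPullback.of_right ?_ (pullback.lift_snd _ _ _) (IsPullback.of_hasPullback f₀ (D.map l.hom))
    rw [hq₁]
    exact (congrArg (IsPullback q f f₀) (c.w l.hom)).mpr hX
  let L₁ : (pullback f₀ (D.map l.hom)).Modules := (Scheme.Modules.pullback (P.map ψ)).obj M
  let eL₁ : (Scheme.Modules.pullback q₁).obj L₁ ≅ L :=
    (LimTop61.pullbackCompIso (P.map ψ) q₁ (cP.w ψ)).app M ≪≫ eM
  let eF₁ : (Scheme.Modules.pullback q₁).obj ((Scheme.Modules.pullback (pullback.fst f₀ (D.map l.hom))).obj F₀) ≅ F :=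
    (LimTop61.pullbackCompIso (pullback.fst f₀ (D.map l.hom)) q₁ hq₁).app F₀ ≪≫ eF
  -- a proper stage
  haveI hlfp : LocallyOfFinitePresentation (pullback.snd f₀ (D.map l.hom)) :=
    MorphismProperty.pullback_snd (P := @LocallyOfFinitePresentation) _ _ h1
  have hprop : IsProper (pullback.snd (pullback.snd f₀ (D.map l.hom)) (c.π.app l.left)) :=
    (LimDesc62.prop_iff_of_isPullback (P := @IsProper) hX₁).1 ‹IsProper f›
  obtain ⟨j, φ, hj⟩ := Approx60.descProp_isProper.desc D c hc l.left (pullback.snd f₀ (D.map l.hom)) inferInstance hprop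
  obtain ⟨q₂, hq₂, hX₂, ⟨eF₂⟩⟩ := Stage62.exists_baseChange_model D c l.left _ _ f q₁ hX₁ φ eF₁
  haveI : IsAffineHom (pullback.fst (pullback.snd f₀ (D.map l.hom)) (D.map φ)) :=
    MorphismProperty.pullback_fst (P := @IsAffineHom) _ _ inferInstance
  refine ⟨CommRingCat.of ↥j.unop.1, Mum71.isNoetherianRing_of_fg _ j.unop.2,
    CommRingCat.ofHom j.unop.1.val.toRingHom, _, pullback.snd (pullback.snd f₀ (D.map l.hom)) (D.map φ), hj,
    (Scheme.Modules.pullback (pullback.fst (pullback.snd f₀ (D.map l.hom)) (D.map φ))).obj L₁,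
    Amp73.isAmple_pullback _ (Amp73.isQuasiAffine_of_isAffineHom _) hamp,
    (Scheme.Modules.pullback (pullback.fst (pullback.snd f₀ (D.map l.hom)) (D.map φ))).obj
      ((Scheme.Modules.pullback (pullback.fst f₀ (D.map l.hom))).obj F₀), ?_, q₂, hX₂,
    ⟨(LimTop61.pullbackCompIso _ q₂ hq₂).app L₁ ≪≫ eL₁⟩, ⟨eF₂⟩⟩
  haveI := h4
  haveI := h5
  haveI := Stage62.isFiniteType_of_isFP h5
  haveI := QCPull72.isQuasicoherent_pullback (pullback.fst f₀ (D.map l.hom)) F₀
  haveI := QCPull72.isFiniteType_pullback (pullback.fst f₀ (D.map l.hom)) F₀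
  exact ⟨QCPull72.isQuasicoherent_pullback _ _, QCPull72.isFiniteType_pullback _ _⟩

end Groth.Agent.Hilb75

end
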