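import Groth.Agent.Hilb75.Euler
import Groth.Agent.Hilb75.Model
import Groth.Agent.Mum71.SchemeModel
import Groth.Agent.Amp73.Local

/-! Hilbert functions of the fibres over affine opens of the base. -/

set_option autoImplicit false
set_option maxSynthPendingDepth 6
set_option synthInstance.maxHeartbeats 200000
set_option linter.style.haveILetI false
set_option backward.isDefEq.respectTransparency.types false

universe u

noncomputable section

open CategoryTheory CategoryTheory.Limits AlgebraicGeometry TopologicalSpace Opposite TensorProduct Function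

namespace Groth.Agent.Hilb75

open Mum71 Coh69 CechComp71 FF71

variable {X S : Scheme.{u}}

/-- The Euler characteristic of a twist on a fibre. -/
abbrev fibEuler (f : X ⟶ S) (L F : X.Modules) (s : S) (n : ℕ) : ℤ :=
  @Curv2.euler (S.residueField s) _ (f.fiber s) ⟨f.fiberToSpecResidueField s⟩
    ((Scheme.Modules.pullback (f.fiberι s)).obj (CohB1.tensorMod F (CohB1.tensorPow L n)))

/-- As a function on exponents. -/
abbrev fibPoly (f : X ⟶ S) (L F : X.Modules) (s : S) : (Fin 1 → ℕ) → ℚ :=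
  fun m => (fibEuler f L F s (m 0) : ℚ)

theorem fibPoly_mem (f : X ⟶ S) [IsProper f] {L F : X.Modules} (hL : PicF.IsInvertible L) [F.IsQuasicoherent]
    [F.IsFiniteType] (s : S) (D : ℕ) (hD : topologicalKrullDim ↥(f.fiber s) ≤ (D : WithBot ℕ∞)) :
    fibPoly f L F s ∈ Snapper75.polySub 1 (D + 1) := by
  letI : (f.fiber s).Over (Spec (CommRingCat.of (S.residueField s))) := ⟨f.fiberToSpecResidueField s⟩
  haveI : IsProper (f.fiber s ↘ Spec (CommRingCat.of (S.residueField s))) :=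
    MorphismProperty.pullback_snd (P := @IsProper) _ _ inferInstance
  have h := euler_tw_mem_polySub (S.residueField s) (Y := f.fiber s) (F := (Scheme.Modules.pullback (f.fiberι s)).obj F)
    ⟨QCPull72.isQuasicoherent_pullback _ F, QCPull72.isFiniteType_pullback _ F⟩
    (Amp73.isInvertible_pullback (f.fiberι s) hL) D hD
  convert h using 1
  funext m
  exact congrArg (fun z : ℤ => (z : ℚ)) (Crv77.euler_congr (twPullIso (f.fiberι s) F hL (m 0)))

section Chart

variable (f : X ⟶ S) {V : S.Opens} (hV : IsAffineOpen V)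

theorem isPullback_fibre_chart {y : S} (hy : y ∈ V) :
    ∃ g : f.fiber y ⟶ (f ⁻¹ᵁ V).toScheme, g ≫ (f ⁻¹ᵁ V).ι = f.fiberι y ∧
      IsPullback g (f.fiberToSpecResidueField y) (Mum71.affBase f hV) (Spec.map (S.evaluation V y hy)) := by
  have outer : IsPullback (f.fiberι y) (f.fiberToSpecResidueField y) f
      (Spec.map (S.evaluation V y hy) ≫ hV.fromSpec) := by
    have hη : Spec.map (S.evaluation V y hy) ≫ hV.fromSpec = S.fromSpecResidueField y := by
      rw [Scheme.fromSpecResidueField, ← hV.fromSpecStalk_eq_fromSpecStalk hy, IsAffineOpen.fromSpecStalk,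
        ← Spec.map_comp_assoc]
      rfl
    rw [hη]
    exact IsPullback.of_hasPullback _ _
  let g := (Mum71.isPullback_affBase f hV).lift (f.fiberι y)
    (f.fiberToSpecResidueField y ≫ Spec.map (S.evaluation V y hy)) (by rw [outer.w, Category.assoc])
  exact ⟨g, IsPullback.lift_fst _ _ _ _, outer.of_right' (Mum71.isPullback_affBase f hV)⟩

variable [IsProper f] [LocallyOfFinitePresentation f] {L : X.Modules} (hL : RelAmple.IsRelAmple f L)
  {F : X.Modules} (hF : CohB1.IsFP F)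

theorem isProper_affBase : IsProper (Mum71.affBase f hV) :=
  MorphismProperty.of_isPullback (P := @IsProper) (Mum71.isPullback_affBase f hV) ‹IsProper f›

include hV hL hF in
/-- A Noetherian model over an affine open. -/
theorem exists_chart_model :
    ∃ (A₀ : CommRingCat.{u}) (_ : IsNoetherianRing A₀) (φ : A₀ ⟶ Γ(S, V)) (X₀ : Scheme.{u})
      (f₀ : X₀ ⟶ Spec A₀) (_ : IsProper f₀) (L₀ : X₀.Modules) (_ : CohB1.IsAmple L₀) (F₀ : X₀.Modules)
      (_ : Coh.IsCoh F₀) (q : (f ⁻¹ᵁ V).toScheme ⟶ X₀), IsPullback q (Mum71.affBase f hV) f₀ (Spec.map φ) ∧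
        Nonempty ((Scheme.Modules.pullback q).obj L₀ ≅ (Scheme.Modules.pullback (f ⁻¹ᵁ V).ι).obj L) ∧
        Nonempty ((Scheme.Modules.pullback q).obj F₀ ≅ (Scheme.Modules.pullback (f ⁻¹ᵁ V).ι).obj F) := by
  haveI := hF
  haveI := isProper_affBase f hV
  haveI : LocallyOfFinitePresentation (Mum71.affBase f hV) :=
    MorphismProperty.of_isPullback (P := @LocallyOfFinitePresentation) (Mum71.isPullback_affBase f hV)
      ‹LocallyOfFinitePresentation f›
  haveI : ((Scheme.Modules.pullback (f ⁻¹ᵁ V).ι).obj F).IsQuasicoherent := QCPull72.isQuasicoherent_pullback _ F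
  haveI := LimTop61.isFP_pullback (f ⁻¹ᵁ V).ι F
  exact exists_polarised_model (Mum71.affBase f hV) _
    (Amp73.isAmple_of_iso ((Scheme.Modules.restrictFunctorIsoPullback (f ⁻¹ᵁ V).ι).app L) (hL.2 ⟨V, hV⟩))
    ((Scheme.Modules.pullback (f ⁻¹ᵁ V).ι).obj F)

end Chart

/-- The Hilbert functions of the fibres over the points of `Spec Γ(S, V)`, read off a Noetherian model. -/
theorem exists_fib_data_of_model (f : X ⟶ S) {V : S.Opens} (hV : IsAffineOpen V) {L F : X.Modules}
    {A₀ : Type u} [CommRing A₀] [IsNoetherianRing A₀] (φ : CommRingCat.of A₀ ⟶ Γ(S, V)) {X₀ : Scheme.{u}}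
    [X₀.Over (Spec (CommRingCat.of A₀))] [IsProper (X₀ ↘ Spec (CommRingCat.of A₀))] {L₀ : X₀.Modules} (hL₀ : CohB1.IsAmple L₀) {F₀ : X₀.Modules} (hF₀ : Coh.IsCoh F₀)
    (q : (f ⁻¹ᵁ V).toScheme ⟶ X₀) (hq : IsPullback q (Mum71.affBase f hV) (X₀ ↘ Spec (CommRingCat.of A₀)) (Spec.map φ))
    (eL : (Scheme.Modules.pullback q).obj L₀ ≅ (Scheme.Modules.pullback (f ⁻¹ᵁ V).ι).obj L)
    (eF : (Scheme.Modules.pullback q).obj F₀ ≅ (Scheme.Modules.pullback (f ⁻¹ᵁ V).ι).obj F)
    (hL : PicF.IsInvertible L) :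
    ∀ {ι : Type u} [Finite ι] {U : ι → X₀.Opens}, GoodCover U L₀ →
      ∃ N, ∀ n, N ≤ n → Module.Finite A₀ (LinearMap.ker (Mum71.cdL A₀ U (tw F₀ L₀ n) 0)) ∧
        ∀ (y : S) (hy : y ∈ V), fibEuler f L F y n =
          (FCx40.fib (LinearMap.ker (Mum71.cdL A₀ U (tw F₀ L₀ n) 0))
            (PrimeSpectrum.comap φ.hom (hV.primeIdealOf ⟨y, hy⟩)) : ℤ) := by
  intro ι _ U hU
  obtain ⟨N, hN⟩ := exists_cycles_spec (A := A₀) hU hF₀ hL₀
  refine ⟨N, fun n hn => ⟨(hN n hn).1, fun y hy => ?_⟩⟩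
  obtain ⟨g, hg, hsq⟩ := isPullback_fibre_chart f hV hy
  letI : (f.fiber y).Over (Spec (CommRingCat.of (S.residueField y))) := ⟨f.fiberToSpecResidueField y⟩
  letI : Algebra A₀ (S.residueField y) := (φ ≫ S.evaluation V y hy).hom.toAlgebra
  have hbig : IsPullback (g ≫ q) (f.fiber y ↘ Spec (CommRingCat.of (S.residueField y)))
      (X₀ ↘ Spec (CommRingCat.of A₀)) (Spec.map (CommRingCat.ofHom (algebraMap A₀ (S.residueField y)))) := by
    have h := hsq.paste_horiz hq
    rw [← Spec.map_comp] at h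
    exact h
  have hker : (PrimeSpectrum.comap φ.hom (hV.primeIdealOf ⟨y, hy⟩)).asIdeal =
      RingHom.ker (algebraMap A₀ (S.residueField y)) := by
    rw [RingHom.algebraMap_toAlgebra, CommRingCat.hom_comp, ← RingHom.comap_ker,
      FGA29.EulerLC.ker_evaluation' hV hy]
    rfl
  rw [← ((hN n hn).2 (S.residueField y)).2 (f.fiber y) (g ≫ q) hbig _ hker]
  let tr : ∀ {M₀ : X₀.Modules} {M : X.Modules},
      ((Scheme.Modules.pullback q).obj M₀ ≅ (Scheme.Modules.pullback (f ⁻¹ᵁ V).ι).obj M) →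
        ((Scheme.Modules.pullback (g ≫ q)).obj M₀ ≅ (Scheme.Modules.pullback (f.fiberι y)).obj M) := fun {M₀ M} e =>
    ((LimTop61.pullbackCompIso q g rfl).app M₀).symm ≪≫ (Scheme.Modules.pullback g).mapIso e ≪≫
      (LimTop61.pullbackCompIso (f ⁻¹ᵁ V).ι g hg).app M
  exact Crv77.euler_congr (twPullIso (f.fiberι y) F hL n ≪≫ EGA73.tensIso (tr eF).symm
    (Amp73.powIso (tr eL).symm n) ≪≫ (twPullIso (g ≫ q) F₀ hL₀.1 n).symm)

/-- Over an affine open the Hilbert functions of the fibres are those of finitely generated modules over a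
Noetherian ring, and polynomial of bounded degree. -/
theorem exists_fib_data (f : X ⟶ S) [IsProper f] [LocallyOfFinitePresentation f] {L : X.Modules}
    (hL : RelAmple.IsRelAmple f L) {F : X.Modules} (hF : CohB1.IsFP F) {V : S.Opens} (hV : IsAffineOpen V) :
    ∃ (A₀ : CommRingCat.{u}) (_ : IsNoetherianRing A₀) (φ : A₀ ⟶ Γ(S, V)) (M : ℕ → ModuleCat.{u} A₀) (N D : ℕ),
      (∀ y ∈ V, fibPoly f L F y ∈ Snapper75.polySub 1 (D + 1)) ∧
      ∀ n, N ≤ n → Module.Finite A₀ (M n) ∧ ∀ (y : S) (hy : y ∈ V), fibEuler f L F y n =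
        (FCx40.fib (M n) (PrimeSpectrum.comap φ.hom (hV.primeIdealOf ⟨y, hy⟩)) : ℤ) := by
  obtain ⟨A₀, hA₀, φ, X₀, f₀, hf₀, L₀, hL₀, F₀, hF₀, q, hq, ⟨eL⟩, ⟨eF⟩⟩ := exists_chart_model f hV hL hF
  obtain ⟨D, hD⟩ := Flat75.exists_dim_bound f hV.isCompact
  letI : X₀.Over (Spec (CommRingCat.of A₀)) := ⟨f₀⟩
  haveI : IsProper (X₀ ↘ Spec (CommRingCat.of A₀)) := hf₀
  haveI : X₀.IsSeparated := ⟨by rw [← terminal.comp_from f₀]; infer_instance⟩
  haveI : CompactSpace X₀ := hL₀.2.1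
  obtain ⟨ι, _, U, hU⟩ := exists_goodCover hL₀.1
  obtain ⟨N, hN⟩ := exists_fib_data_of_model f hV (A₀ := A₀) φ hL₀ hF₀ q hq eL eF (Amp73.isInvertible_of_isRelAmple hL) hU
  haveI := hF
  haveI : F.IsQuasicoherent := inferInstance
  haveI : F.IsFiniteType := inferInstance
  exact ⟨A₀, hA₀, φ, fun n => ModuleCat.of A₀ (LinearMap.ker (Mum71.cdL A₀ U (tw F₀ L₀ n) 0)), N, D,
    fun y hy => fibPoly_mem f (Amp73.isInvertible_of_isRelAmple hL) y D (hD y hy), hN⟩

end Groth.Agent.Hilb75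

end
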