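import Groth.Agent.Hilb75.Twist
import Groth.Agent.Coh69.AmpleFlat
import Mathlib.LinearAlgebra.TensorProduct.Finiteness

/-! Flatness of a base change detected by the sections of high twists, tensored with the algebra. -/

set_option autoImplicit false
set_option maxSynthPendingDepth 6
set_option synthInstance.maxHeartbeats 200000
set_option linter.style.haveILetI false
set_option backward.isDefEq.respectTransparency.types false

universe u

noncomputable section

open CategoryTheory CategoryTheory.Limits AlgebraicGeometry TopologicalSpace Opposite TensorProduct Function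
open Groth.Agent.Var76.LineBundle Groth.Agent.Var76.ZeroScheme

namespace Groth.Agent.Hilb75

open Mum71 Coh69 CechComp71 FF71

variable {A : Type u} [CommRing A] {X : Scheme.{u}} [X.Over (Spec (CommRingCat.of A))]

variable (A) in
/-- Restriction, linearly over the base. -/
def resA (M : X.Modules) {U V : X.Opens} (h : V ≤ U) : Γ(M, U) →ₗ[A] Γ(M, V) where
  toFun := Var76.LineBundle.res M h
  map_add' := fun a b => map_add _ a b
  map_smul' a x := by
    rw [RingHom.id_apply, modSec_smul, modSec_smul]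
    exact (QC70.res_smul (M := M) h _ _).trans (congrArg (· • _) (resO_rA ..))

variable (A) in
/-- An isomorphism on sections, linearly over the base. -/
def secA {M M' : X.Modules} (e : M ≅ M') (U : X.Opens) : Γ(M, U) ≃ₗ[A] Γ(M', U) :=
  { AmpleFlat.secIso e U with
    map_smul' := fun a x => by
      rw [RingHom.id_apply, modSec_smul, modSec_smul]
      exact map_smul (AmpleFlat.secIso e U) _ _ }

variable {L : X.Modules} (s : Coh.structureModule X ⟶ L)

variable (A) in
/-- Multiplication by a power of a section, linearly over the base. -/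
def twA (n : ℕ) (U : X.Opens) (F : X.Modules) : Γ(F, U) →ₗ[A] Γ(tw F L n, U) where
  toFun := Amp73.tw s n F
  map_add' a b := Amp73.tm_add_left a b _
  map_smul' a x := by
    rw [RingHom.id_apply, modSec_smul, modSec_smul]
    exact Amp73.tm_smul_left _ x _

theorem resA_twA (n : ℕ) (F : X.Modules) {U V : X.Opens} (h : V ≤ U) (x : Γ(F, U)) :
    resA A (tw F L n) h (twA A s n U F x) = twA A s n V F (resA A F h x) :=
  Amp73.res_tw s n h x

theorem bijective_twA_genLocus (n : ℕ) (F : X.Modules) :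
    Bijective (twA A s n (CohB1.genLocus L s) F) :=
  AmpleFlat.bijective_twLin_genLocus s n F

variable (B : Type u) [CommRing B] [Algebra A B] [CompactSpace X] [QuasiSeparatedSpace X]
  (hL : PicF.IsInvertible L)

include hL in
/-- A tensor vanishing where the section generates is killed by powers of the section. -/
theorem exists_twA_lTensor_eq_zero {F : X.Modules} (hF : Coh.IsQCoh F) (z : B ⊗[A] Γ(F, ⊤))
    (hz : (resA A F (le_top : CohB1.genLocus L s ≤ ⊤)).lTensor B z = 0) :
    ∃ N l : ℕ, ((twA A s l ⊤ (tw F L N)) ∘ₗ (twA A s N ⊤ F)).lTensor B z = 0 := by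
  classical
  let D := CohB1.genLocus L s
  let fr : (Γ(F, D) →₀ A) →ₗ[A] Γ(F, D) := Finsupp.linearCombination A id
  let π : Γ(F, ⊤) × (Γ(F, D) →₀ A) →ₗ[A] Γ(F, D) := (resA A F le_top).coprod fr
  have hπ : Surjective π := fun g => ⟨(0, Finsupp.single g 1), by simp [π, fr]⟩
  obtain ⟨w, hw⟩ := (lTensor_exact B (LinearMap.exact_subtype_ker_map π) hπ
    ((LinearMap.inl A _ _).lTensor B z)).1 (by
      rw [← LinearMap.comp_apply, ← LinearMap.lTensor_comp, LinearMap.coprod_inl, hz])
  obtain ⟨k, b, r, rfl⟩ := TensorProduct.exists_sum_tmul_eq w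
  let S : Finset Γ(F, D) := Finset.univ.biUnion fun i => (r i).1.2.support
  choose n₀ hn₀ using fun g : Γ(F, D) => Amp73.exists_tw_extend hL s hF g
  let N := S.sup n₀
  choose Y hY using fun g : S => hn₀ g.1 N (Finset.le_sup g.2)
  let Yv : Γ(F, D) → Γ(tw F L N, ⊤) := fun g => if h : g ∈ S then Y ⟨g, h⟩ else 0
  let Ψ : Γ(F, ⊤) × (Γ(F, D) →₀ A) →ₗ[A] Γ(tw F L N, ⊤) :=
    (twA A s N ⊤ F).coprod (Finsupp.linearCombination A Yv)
  have hΨ : ∀ i, Var76.LineBundle.res (tw F L N) (le_top : D ≤ ⊤) (Ψ (r i).1) = 0 := by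
    intro i
    have h0 : π (r i).1 = 0 := (r i).2
    refine Eq.trans ?_ ((congrArg (twA A s N D F) h0).trans (map_zero _))
    show resA A (tw F L N) le_top (Ψ (r i).1) = _
    simp only [Ψ, π, fr, LinearMap.coprod_apply, map_add, resA_twA, Finsupp.linearCombination_apply,
      Finsupp.sum, map_sum, map_smul, id]
    refine congrArg₂ (· + ·) rfl (Finset.sum_congr rfl fun g hg => congrArg _ ?_)
    have hgS : g ∈ S := Finset.mem_biUnion.2 ⟨i, Finset.mem_univ _, hg⟩
    simp only [Yv, dif_pos hgS]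
    exact hY ⟨g, hgS⟩
  choose l₀ hl₀ using fun i => Amp73.exists_tw_eq_zero hL s
    (Amp73.isQCoh_tensorMod hF (Mero90.isQCoh_of_isInvertible (EGA73.isInvertible_tensorPow hL N)))
    (Ψ (r i).1) (hΨ i)
  let l := ∑ i, l₀ i
  have hl : ∀ i, twA A s l ⊤ (tw F L N) (Ψ (r i).1) = 0 := fun i =>
    hl₀ i l (Finset.single_le_sum (fun j _ => Nat.zero_le (l₀ j)) (Finset.mem_univ i))
  refine ⟨N, l, ?_⟩
  rw [show twA A s N ⊤ F = Ψ ∘ₗ LinearMap.inl A _ _ from (LinearMap.coprod_inl _ _).symm, ← LinearMap.comp_assoc,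
    LinearMap.lTensor_comp, LinearMap.comp_apply, ← hw, map_sum, map_sum]
  refine Finset.sum_eq_zero fun i _ => ?_
  rw [LinearMap.lTensor_tmul, LinearMap.lTensor_tmul, LinearMap.comp_apply, Submodule.coe_subtype, hl i, tmul_zero]

include hL in
/-- Sections tensored with `B` where a section generates lift after multiplying by powers of it. -/
theorem exists_twA_lift {F : X.Modules} (hF : Coh.IsQCoh F) (x : B ⊗[A] Γ(F, CohB1.genLocus L s)) :
    ∃ N : ℕ, ∀ n, N ≤ n → ∃ t : B ⊗[A] Γ(tw F L n, ⊤),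
      (resA A (tw F L n) le_top).lTensor B t = (twA A s n _ F).lTensor B x := by
  induction x with
  | zero => exact ⟨0, fun n _ => ⟨0, by simp⟩⟩
  | tmul b g =>
    obtain ⟨N, hN⟩ := Amp73.exists_tw_extend hL s hF g
    refine ⟨N, fun n hn => ?_⟩
    obtain ⟨t, ht⟩ := hN n hn
    exact ⟨b ⊗ₜ t, congrArg (fun v => b ⊗ₜ[A] v) ht⟩
  | add x y hx hy =>
    obtain ⟨N, hN⟩ := hx
    obtain ⟨N', hN'⟩ := hy
    refine ⟨max N N', fun n hn => ?_⟩
    obtain ⟨t, ht⟩ := hN n (le_of_max_le_left hn)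
    obtain ⟨t', ht'⟩ := hN' n (le_of_max_le_right hn)
    exact ⟨t + t', by rw [map_add, map_add, ht, ht']⟩

include hL in
/-- Flatness of high twists tensored with `B` passes to the loci where sections generate. -/
theorem flat_tensor_genLocus {F : X.Modules} (hF : Coh.IsQCoh F) (n₀ : ℕ)
    (h : ∀ n, n₀ ≤ n → Module.Flat B (B ⊗[A] Γ(tw F L n, ⊤))) :
    Module.Flat B (B ⊗[A] Γ(F, CohB1.genLocus L s)) := by
  classical
  refine Module.Flat.of_forall_isTrivialRelation fun {q β x} hx => ?_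
  let D := CohB1.genLocus L s
  choose N hN using fun i => exists_twA_lift s B hL hF (x i)
  let n := n₀ + ∑ i, N i
  choose t ht using fun i => hN i n
    ((Finset.single_le_sum (fun j _ => Nat.zero_le (N j)) (Finset.mem_univ i)).trans (Nat.le_add_left _ _))
  let P := tw F L n
  let τ : B ⊗[A] Γ(P, ⊤) := ∑ i, β i • t i
  have hτ : (resA A P (le_top : D ≤ ⊤)).lTensor B τ = 0 := by
    show (resA A P (le_top : D ≤ ⊤)).baseChange B (∑ i, β i • t i) = 0
    rw [map_sum]
    refine Eq.trans (Finset.sum_congr rfl fun i _ => ?_)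
      ((map_sum ((twA A s n D F).baseChange B) (fun i => β i • x i) Finset.univ).symm.trans
        ((congrArg ((twA A s n D F).baseChange B) hx).trans (map_zero _)))
    rw [map_smul, map_smul]
    exact congrArg (β i • ·) (ht i)
  obtain ⟨m, l, hml⟩ := exists_twA_lTensor_eq_zero s B hL
    (Amp73.isQCoh_tensorMod hF (Mero90.isQCoh_of_isInvertible (EGA73.isInvertible_tensorPow hL n))) τ hτ
  let Q := tw (tw P L m) L l
  let Φ : Q ≅ tw F L (n + m + l) :=
    EGA73.tensIso (EGA73.tensAssoc' _ _ _ ≪≫ EGA73.tensIso (Iso.refl F) (Amp73.powAdd L n m)) (Iso.refl _) ≪≫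
      EGA73.tensAssoc' _ _ _ ≪≫ EGA73.tensIso (Iso.refl F) (Amp73.powAdd L (n + m) l)
  haveI : Module.Flat B (B ⊗[A] Γ(Q, ⊤)) :=
    haveI := h (n + m + l) ((Nat.le_add_right n₀ _).trans ((Nat.le_add_right _ m).trans (Nat.le_add_right _ l)))
    Module.Flat.of_linearEquiv (LinearEquiv.baseChange A B _ _ (secA A Φ ⊤))
  let Λ : ∀ U : X.Opens, Γ(P, U) →ₗ[A] Γ(Q, U) := fun U => twA A s l U (tw P L m) ∘ₗ twA A s m U P
  let T : Fin q → B ⊗[A] Γ(Q, ⊤) := fun i => (Λ ⊤).baseChange B (t i)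
  have hT : ∑ i, β i • T i = 0 := by
    refine Eq.trans ?_ hml
    show _ = (Λ ⊤).baseChange B (∑ i, β i • t i)
    rw [map_sum]
    exact Finset.sum_congr rfl fun i _ => (map_smul _ _ _).symm
  obtain ⟨κ, a, y, hTy, ha⟩ := Module.Flat.isTrivialRelation_of_sum_smul_eq_zero hT
  let E : B ⊗[A] Γ(F, D) ≃ₗ[B] B ⊗[A] Γ(Q, D) := LinearEquiv.baseChange A B _ _
    (LinearEquiv.ofBijective (Λ D ∘ₗ twA A s n D F)
      (by
        rw [LinearMap.coe_comp, show ⇑(Λ D) = ⇑(twA A s l D (tw P L m)) ∘ ⇑(twA A s m D P) from rfl]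
        exact ((bijective_twA_genLocus (A := A) s l (tw P L m)).comp (bijective_twA_genLocus (A := A) s m P)).comp
          (bijective_twA_genLocus (A := A) s n F)))
  refine ⟨κ, a, fun j => E.symm ((resA A Q (le_top : D ≤ ⊤)).baseChange B (y j)), fun i => E.injective ?_, ha⟩
  have e1 : (resA A Q (le_top : D ≤ ⊤)).baseChange B (T i) = E (x i) := by
    show (resA A Q _).lTensor B ((Λ ⊤).lTensor B (t i)) = (Λ D ∘ₗ twA A s n D F).lTensor B (x i)
    rw [← LinearMap.comp_apply, ← LinearMap.lTensor_comp,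
      show resA A Q (le_top : D ≤ ⊤) ∘ₗ Λ ⊤ = Λ D ∘ₗ resA A P le_top from
        LinearMap.ext fun v => (resA_twA s l (tw P L m) le_top _).trans (congrArg _ (resA_twA s m P le_top v)),
      LinearMap.lTensor_comp, LinearMap.comp_apply, ht i, ← LinearMap.comp_apply, ← LinearMap.lTensor_comp]
  rw [map_sum, ← e1, hTy i, map_sum]
  refine Finset.sum_congr rfl fun j _ => ?_
  rw [map_smul, map_smul, LinearEquiv.apply_symm_apply]

/-- Flatness over the base ring is flatness over the ring of functions of its spectrum. -/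
theorem flat_of_bijective_algebraMap (B R' M : Type u) [CommRing B] [CommRing R'] [Algebra B R'] [AddCommGroup M]
    [Module B M] [Module R' M] [IsScalarTower B R' M] (hR : Bijective (algebraMap B R')) [Module.Flat B M] :
    Module.Flat R' M := by
  let e : R' ⊗[B] M →ₗ[R'] M := LinearMap.liftBaseChange R' LinearMap.id
  have hsur : ∀ z : R' ⊗[B] M, ∃ m : M, (1 : R') ⊗ₜ[B] m = z := fun z => by
    induction z with
    | zero => exact ⟨0, tmul_zero _ _⟩
    | tmul r m =>
      obtain ⟨b, rfl⟩ := hR.2 r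
      exact ⟨b • m, by rw [tmul_smul, smul_tmul', Algebra.algebraMap_eq_smul_one]⟩
    | add z z' hz hz' =>
      obtain ⟨m, rfl⟩ := hz
      obtain ⟨m', rfl⟩ := hz'
      exact ⟨m + m', tmul_add _ _ _⟩
  have he : ∀ m, e ((1 : R') ⊗ₜ[B] m) = m := fun m => by simp [e]
  refine Module.Flat.of_linearEquiv (LinearEquiv.ofBijective e ⟨fun z z' hzz => ?_, fun m => ⟨_, he m⟩⟩).symm
  obtain ⟨m, rfl⟩ := hsur z
  obtain ⟨m', rfl⟩ := hsur z'
  rw [he, he] at hzz
  rw [hzz]

variable {B} {X' : Scheme.{u}} [X'.Over (Spec (CommRingCat.of B))] {g : X' ⟶ X}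
  (hsq : IsPullback g (X' ↘ Spec (CommRingCat.of B)) (X ↘ Spec (CommRingCat.of A))
    (Spec.map (CommRingCat.ofHom (algebraMap A B))))

omit hL in
include hsq in
/-- A base change is flat if the high twists tensored with the algebra are. -/
theorem isFlatOver_of_flat_tensor {L₀ : X.Modules} (hamp : CohB1.IsAmple L₀) (F : X.Modules)
    [F.IsQuasicoherent] (N : ℕ) (h : ∀ n, N ≤ n → Module.Flat B (B ⊗[A] Γ(tw F L₀ n, ⊤))) :
    FlatMod.IsFlatOver (X' ↘ Spec (CommRingCat.of B)) ((Scheme.Modules.pullback g).obj F) := by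
  intro x
  haveI := isAffineHom_of_sq hsq
  haveI := QCPull72.isQuasicoherent_pullback g F
  obtain ⟨m, s, hxs, haff⟩ := hamp.2.2 (g x)
  let D := CohB1.genLocus _ s
  haveI hD : Module.Flat B (B ⊗[A] Γ(F, D)) := flat_tensor_genLocus s B
    (EGA73.isInvertible_tensorPow hamp.1 (m + 1)) ‹F.IsQuasicoherent› N fun n hn =>
      haveI := h ((m + 1) * n) (hn.trans (Nat.le_mul_of_pos_left n (Nat.succ_pos m)))
      Module.Flat.of_linearEquiv (LinearEquiv.baseChange A B _ _
        (secA A (EGA73.tensIso (Iso.refl F) (Amp73.powMul L₀ (m + 1) n)) ⊤))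
  obtain ⟨E, -⟩ := exists_sq_sections hsq F haff (rfl : g ⁻¹ᵁ D = g ⁻¹ᵁ D)
  have e : g ⁻¹ᵁ D ≤ (X' ↘ Spec (CommRingCat.of B)) ⁻¹ᵁ ⊤ := le_top
  have hU : IsAffineOpen (g ⁻¹ᵁ D) := haff.preimage g
  refine FlatMor68.FlatSections.flatAt_of_sections _ e hU (isAffineOpen_top _)
    (QC70.isLocAt_of_isQuasicoherent _ hU) ?_ hxs
  haveI : Module.Flat B Γ((Scheme.Modules.pullback g).obj F, g ⁻¹ᵁ D) := Module.Flat.of_linearEquiv E.symm
  letI : Algebra B Γ(Spec (CommRingCat.of B), ⊤) := (Scheme.ΓSpecIso (CommRingCat.of B)).inv.hom.toAlgebra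
  letI : Module Γ(Spec (CommRingCat.of B), ⊤) Γ((Scheme.Modules.pullback g).obj F, g ⁻¹ᵁ D) :=
    Module.compHom _ ((X' ↘ Spec (CommRingCat.of B)).appLE ⊤ (g ⁻¹ᵁ D) e).hom
  haveI : IsScalarTower B Γ(Spec (CommRingCat.of B), ⊤) Γ((Scheme.Modules.pullback g).obj F, g ⁻¹ᵁ D) :=
    IsScalarTower.of_algebraMap_smul fun b v =>
      (congrArg (· • v) (congrArg (fun φ => φ b) (rA_eq_appLE B X' (g ⁻¹ᵁ D)))).symm
  exact flat_of_bijective_algebraMap B _ _
    (ConcreteCategory.bijective_of_isIso (Scheme.ΓSpecIso (CommRingCat.of B)).inv)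

end Groth.Agent.Hilb75

end
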