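import Groth.Agent.Hilb75.Uniform
import Groth.Agent.Hilb75.FlatCriterion
import Groth.Agent.FlatStage64.Main
import Groth.Agent.Mum71.Model

/-! Cycles of large twists over an arbitrary algebra with flat terms. -/

set_option autoImplicit false
set_option maxSynthPendingDepth 6
set_option synthInstance.maxHeartbeats 200000
set_option linter.style.haveILetI false
set_option backward.isDefEq.respectTransparency.types false

universe u

noncomputable section

open CategoryTheory CategoryTheory.Limits AlgebraicGeometry TopologicalSpace Opposite TensorProduct Function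
open Groth.Agent.Var76.LineBundle

namespace Groth.Agent.Hilb75

open Mum71 Coh69 CechComp71 FF71

variable {A : Type u} [CommRing A] {X : Scheme.{u}} [X.Over (Spec (CommRingCat.of A))]
  {ι : Type u} [Finite ι] {U : ι → X.Opens}

omit [Finite ι] in
variable (A) in
/-- Global sections as zero cycles. -/
theorem exists_topKer (hU : ⨆ i, U i = ⊤) (G : X.Modules) :
    ∃ e : Γ(G, ⊤) ≃ₗ[A] LinearMap.ker (cdL A U G 0), ∀ x i, (e x).1 i = resA A G le_top x := by
  have hb := CechComp71.ofGlobal_bijective hU (Coh.toAb G)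
  let r : Γ(G, ⊤) →ₗ[A] Ch U G 0 := LinearMap.pi fun i => resA A G le_top
  have hr : ∀ x, r x ∈ LinearMap.ker (cdL A U G 0) := fun x =>
    (CechComp71.ofGlobal U (Coh.toAb G) x).2
  refine ⟨LinearEquiv.ofBijective (r.codRestrict _ hr) ⟨fun x y hxy => ?_, fun z => ?_⟩, fun x i => rfl⟩
  · exact hb.1 (Subtype.ext (congrArg Subtype.val hxy))
  · obtain ⟨x, hx⟩ := hb.2 ⟨z.1, z.2⟩
    exact ⟨x, Subtype.ext (congrArg Subtype.val hx :)⟩

variable [IsProper (X ↘ Spec (CommRingCat.of A))] {F L : X.Modules}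

/-- Sections of a flat module on a base change are flat. -/
theorem flatTerms_of_isFlatOver (hU' : ∀ (n : ℕ) (i : Fin (n + 1) → ι), IsAffineOpen (cOpen U i))
    [F.IsQuasicoherent] (B : Type u) [CommRing B] [Algebra A B] {X' : Scheme.{u}}
    [X'.Over (Spec (CommRingCat.of B))] {g : X' ⟶ X}
    (hsq : IsPullback g (X' ↘ Spec (CommRingCat.of B)) (X ↘ Spec (CommRingCat.of A))
      (Spec.map (CommRingCat.ofHom (algebraMap A B))))
    (hfl : FlatMod.IsFlatOver (X' ↘ Spec (CommRingCat.of B)) ((Scheme.Modules.pullback g).obj F)) :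
    FlatTerms A U F B := by
  intro p k
  haveI := isAffineHom_of_sq hsq
  haveI := QCPull72.isQuasicoherent_pullback g F
  have hV := hU' p k
  obtain ⟨E, -⟩ := exists_sq_sections hsq F hV (rfl : g ⁻¹ᵁ cOpen U k = g ⁻¹ᵁ cOpen U k)
  refine @Module.Flat.of_linearEquiv _ _ _ _ _ _ _ _ ?_ E
  let W := g ⁻¹ᵁ cOpen U k
  have h := FlatMor68.FlatSections.flat_sections (X' ↘ Spec (CommRingCat.of B)) (U := W) (V := ⊤) le_top
    (hV.preimage g) (isAffineOpen_top _) (QC70.isLocAt_of_isQuasicoherent _ (hV.preimage g)) (fun x _ => hfl x)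
  letI : Algebra B Γ(Spec (CommRingCat.of B), ⊤) := (Scheme.ΓSpecIso (CommRingCat.of B)).inv.hom.toAlgebra
  letI : Module Γ(Spec (CommRingCat.of B), ⊤) Γ((Scheme.Modules.pullback g).obj F, W) := Module.compHom _
    ((X' ↘ Spec (CommRingCat.of B)).appLE ⊤ W le_top).hom
  haveI : Module.Flat B Γ(Spec (CommRingCat.of B), ⊤) := Module.Flat.of_linearEquiv
    (LinearEquiv.ofBijective (Algebra.linearMap B Γ(Spec (CommRingCat.of B), ⊤))
      (ConcreteCategory.bijective_of_isIso (Scheme.ΓSpecIso (CommRingCat.of B)).inv)).symm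
  haveI : IsScalarTower B Γ(Spec (CommRingCat.of B), ⊤) Γ((Scheme.Modules.pullback g).obj F, W) :=
    IsScalarTower.of_algebraMap_smul fun a m =>
      (congrArg (· • m) (congrArg (fun φ => φ a) (rA_eq_appLE B X' W))).symm
  haveI : Module.Flat Γ(Spec (CommRingCat.of B), ⊤) Γ((Scheme.Modules.pullback g).obj F, W) := h
  exact Module.Flat.trans B Γ(Spec (CommRingCat.of B), ⊤) _

variable [IsNoetherianRing A]

/-- Flat terms come from a finitely generated stage. -/
theorem exists_flat_stage (hU' : ∀ (n : ℕ) (i : Fin (n + 1) → ι), IsAffineOpen (cOpen U i)) (hF : Coh.IsCoh F)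
    (B : Type u) [CommRing B] [Algebra A B] (hft : FlatTerms A U F B) :
    ∃ C : Subalgebra A B, C.FG ∧ FlatTerms A U F C := by
  classical
  haveI := hF.1
  haveI := hF.2
  haveI : IsLocallyNoetherian X := LocallyOfFiniteType.isLocallyNoetherian (X ↘ Spec (CommRingCat.of A))
  let 𝒲 : Set X.Opens := Set.range fun i : Σ p, Fin (p + 1) → ι => cOpen U i.2
  have h𝒲 : 𝒲.Finite := by
    refine (Set.finite_range fun s : Set ι => (⨅ i ∈ s, U i : X.Opens)).subset ?_
    rintro _ ⟨⟨p, k⟩, rfl⟩
    exact ⟨Set.range k, le_antisymm (le_cOpen U fun j => iInf₂_le (k j) ⟨j, rfl⟩)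
      (le_iInf₂ fun i ⟨j, hj⟩ => hj ▸ cOpen_le U k j)⟩
  haveI := h𝒲.to_subtype
  letI := Fintype.ofFinite 𝒲
  have hW : ∀ W : 𝒲, ∃ C : Subalgebra A B, C.FG ∧
      ∀ D : Subalgebra A B, C ≤ D → Module.Flat D (D ⊗[A] Γ(F, W.1)) := by
    rintro ⟨_, ⟨p, k⟩, rfl⟩
    let W := cOpen U k
    have hWa : IsAffineOpen W := hU' p k
    letI : Algebra A Γ(X, W) := (rA A X W).toAlgebra
    haveI : IsScalarTower A Γ(X, W) Γ(F, W) := IsScalarTower.of_algebraMap_smul fun _ _ => rfl
    haveI : Algebra.FiniteType A Γ(X, W) := by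
      have h := ((X ↘ Spec (CommRingCat.of A)).finiteType_appLE (isAffineOpen_top _) hWa le_top).comp
        (RingHom.FiniteType.of_surjective (Scheme.ΓSpecIso (CommRingCat.of A)).inv.hom
          (ConcreteCategory.bijective_of_isIso (Scheme.ΓSpecIso (CommRingCat.of A)).inv).2)
      rw [← CommRingCat.hom_comp, ← rA_eq_appLE] at h
      exact h
    haveI := QC70.finite_sections_of_isFiniteType F hWa
    exact FlatStage64.exists_fg_flat (B := Γ(X, W)) (A := B) (M := Γ(F, W)) (hft p k)
  choose C hC hflat using hW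
  refine ⟨Finset.univ.sup C, ?_, fun p k => hflat ⟨cOpen U k, ⟨⟨p, k⟩, rfl⟩⟩ _ (Finset.le_sup (Finset.mem_univ _))⟩
  exact Finset.sup_induction Subalgebra.fg_bot (fun a ha b hb => ha.sup hb) fun W _ => hC W

variable (hUL : GoodCover U L) (hF : Coh.IsCoh F) (hL : CohB1.IsAmple L)

include hUL hF hL in
/-- Over a Noetherian algebra with flat terms the cycles commute with the algebra and are flat. -/
theorem flat_cycles_noetherian (B : Type u) [CommRing B] [Algebra A B] [IsNoetherianRing B]
    (hft : FlatTerms A U F B) (n : ℕ) (hfin : Module.Finite A (LinearMap.ker (cdL A U (tw F L n) 0)))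
    (hK : ∀ (K : Type u) [Field K] [Algebra A K], GoodAt A U (tw F L n) K) :
    Module.Flat B (B ⊗[A] LinearMap.ker (cdL A U (tw F L n) 0)) ∧ Bijective (kerBC (cdL A U (tw F L n) 0) B) ∧
      ∀ (C : Type u) [CommRing C] [Algebra A C] [Algebra B C] [IsScalarTower A B C],
        Bijective (kerBC (cdL A U (tw F L n) 0) C) := by
  obtain ⟨hu, hfink, hflk, hsurj⟩ := flat_algebra_spec (A := A) (B := B) hUL hF hL hft n hK
  let d := cdL A U (tw F L n) 0
  haveI : ∀ p, Module.Flat B (B ⊗[A] Ch U (tw F L n) p) := flat_twist hUL hft n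
  haveI hcok := flat_coker_of_uEx _ _ (hu 0)
  haveI := hfink
  haveI := hflk
  haveI : Module.Finite A (LinearMap.ker d) := hfin
  haveI : Module.Finite B (B ⊗[A] LinearMap.ker d) := Module.Finite.base_change A B _
  have hbij : Bijective (kerBC d B) := by
    refine ⟨?_, hsurj⟩
    rw [← LinearMap.ker_eq_bot, ← Submodule.subsingleton_iff_eq_bot]
    haveI : Module.Finite B (LinearMap.ker (kerBC d B)) :=
      Module.Finite.of_fg (IsNoetherian.noetherian (LinearMap.ker (kerBC d B)))
    refine Mum71.subsingleton_of_forall_quotient_tensor (A := B) fun m hm => ?_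
    letI := Ideal.Quotient.field m
    have h1 := (hK (B ⧸ m)).2
    have h2 : Bijective (kerBC (d.baseChange B) (B ⧸ m)) := bijective_kerBC_of_flat_coker _ _
    have h3 : Injective ((kerBC d B).lTensor (B ⧸ m)) := by
      intro a b hab
      let c := AlgebraTensorModule.cancelBaseChange A B (B ⧸ m) (B ⧸ m) (LinearMap.ker d)
      have hab' : (kerBC d B).baseChange (B ⧸ m) a = (kerBC d B).baseChange (B ⧸ m) b := hab
      refine c.injective (h1.1 (Subtype.ext ?_))
      rw [cancel_kerBC, cancel_kerBC, hab']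
    have h4 : Injective ((LinearMap.ker (kerBC d B)).subtype.lTensor (B ⧸ m)) :=
      LinearMap.lTensor_injective_of_exact_of_flat (kerBC d B) hsurj (LinearMap.ker (kerBC d B)).subtype
        (Submodule.subtype_injective _) (LinearMap.exact_subtype_ker_map _) (B ⧸ m)
    haveI : Subsingleton ((B ⧸ m) ⊗[B] LinearMap.ker (kerBC d B)) :=
      subsingleton_of_forall_eq 0 fun z => h4 (h3 (by
        rw [← LinearMap.comp_apply, ← LinearMap.lTensor_comp,
          show kerBC d B ∘ₗ (LinearMap.ker (kerBC d B)).subtype = 0 from LinearMap.ext fun w => w.2,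
          LinearMap.lTensor_zero, LinearMap.zero_apply, map_zero, map_zero]))
    exact (TensorProduct.comm B _ (B ⧸ m)).toEquiv.subsingleton
  exact ⟨Module.Flat.of_linearEquiv (LinearEquiv.ofBijective _ hbij), hbij, fun C _ _ _ _ =>
    bijective_kerBC_trans d B C hbij (bijective_kerBC_of_flat_coker _ C)⟩

include hUL hF hL in
/-- Over any algebra with flat terms the large cycles commute with the algebra and are finite projective. -/
theorem exists_flat_cycles : ∃ N, ∀ n, N ≤ n → Module.Finite A (LinearMap.ker (cdL A U (tw F L n) 0)) ∧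
    (∀ (K : Type u) [Field K] [Algebra A K], GoodAt A U (tw F L n) K) ∧
    ∀ (B : Type u) [CommRing B] [Algebra A B], FlatTerms A U F B →
      Module.Projective B (B ⊗[A] LinearMap.ker (cdL A U (tw F L n) 0)) ∧
        Bijective (kerBC (cdL A U (tw F L n) 0) B) := by
  haveI : IsLocallyNoetherian X := LocallyOfFiniteType.isLocallyNoetherian (X ↘ Spec (CommRingCat.of A))
  obtain ⟨N, hN⟩ := exists_goodAt (A := A) hUL hF hL
  refine ⟨N, fun n hn => ?_⟩
  haveI : (tw F L n).IsQuasicoherent := (isCoh_tw hF hL.1 n).1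
  have hfin := finite_ker (A := A) hUL.top hUL.affine (isCoh_tw hF hL.1 n)
  refine ⟨hfin, hN n hn, fun B _ _ hft => ?_⟩
  obtain ⟨C, hC, hftC⟩ := exists_flat_stage hUL.affine hF B hft
  haveI : Algebra.FiniteType A C := (Subalgebra.fg_iff_finiteType C).1 hC
  haveI : IsNoetherianRing C := Algebra.FiniteType.isNoetherianRing A C
  obtain ⟨hflat, -, hall⟩ := flat_cycles_noetherian hUL hF hL C hftC n hfin (hN n hn)
  refine ⟨?_, hall B⟩
  haveI := hflat
  haveI : Module.Flat B (B ⊗[A] LinearMap.ker (cdL A U (tw F L n) 0)) :=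
    Module.Flat.of_linearEquiv (AlgebraTensorModule.cancelBaseChange A C B B (LinearMap.ker (cdL A U (tw F L n) 0))).symm
  haveI : Module.FinitePresentation A (LinearMap.ker (cdL A U (tw F L n) 0)) := Module.finitePresentation_of_finite A _
  exact Module.Flat.projective_of_finitePresentation

end Groth.Agent.Hilb75

end
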