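import Groth.Agent.Hilb75.Fibres

/-! Finitely many Hilbert polynomials; semicontinuity. -/

set_option autoImplicit false
set_option maxSynthPendingDepth 6
set_option synthInstance.maxHeartbeats 200000
set_option linter.style.haveILetI false
set_option backward.isDefEq.respectTransparency.types false

universe u

noncomputable section

open CategoryTheory CategoryTheory.Limits AlgebraicGeometry TopologicalSpace Opposite TensorProduct Function

namespace Groth.Agent.Hilb75

/-- A polynomial function of degree at most `D` is determined by `D + 1` consecutive values. -/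
theorem eq_of_eq_tail {D : ℕ} (N : ℕ) {f g : (Fin 1 → ℕ) → ℚ} (hf : f ∈ Snapper75.polySub 1 (D + 1))
    (hg : g ∈ Snapper75.polySub 1 (D + 1)) (h : ∀ j, j ≤ D → f (fun _ => N + j) = g (fun _ => N + j)) :
    f = g := by
  classical
  obtain ⟨P, hP, hPe⟩ := Snapper75.mem_polySub_iff.1 (Submodule.sub_mem _ hf hg)
  have hP0 : P = 0 := by
    refine MvPolynomial.eq_zero_of_eval_zero_at_prod_finset P
      (fun _ => (Finset.range (D + 1)).image fun j : ℕ => ((N + j : ℕ) : ℚ)) (fun i => ?_) fun x hx => ?_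
    · rw [Finset.card_image_of_injective _ fun a b hab => Nat.add_left_cancel (Nat.cast_injective hab),
        Finset.card_range, Nat.lt_succ_iff, MvPolynomial.degreeOf_le_iff]
      intro m hm
      have := hP m hm
      rw [Snapper75.sum_eq_finsupp_sum, Fin.sum_univ_one] at this
      rw [Subsingleton.elim i 0]
      omega
    · obtain ⟨j, hj, hjx⟩ := Finset.mem_image.1 (hx 0)
      have hx' : x = fun _ => ((N + j : ℕ) : ℚ) := funext fun i => by rw [Subsingleton.elim i 0, hjx]
      rw [hx', ← hPe fun _ => N + j, Pi.sub_apply, h j (Nat.lt_succ_iff.1 (Finset.mem_range.1 hj)), sub_self]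
  funext n
  have := hPe n
  rw [hP0, map_zero, Pi.sub_apply, sub_eq_zero] at this
  exact this

section Fib

variable {A : Type u} [CommRing A] (M : Type u) [AddCommGroup M] [Module A M] [Module.Finite A M]

theorem exists_fib_le : ∃ b : ℕ, ∀ x : PrimeSpectrum A, FCx40.fib M x ≤ b := by
  classical
  obtain ⟨s, hs⟩ := Module.Finite.fg_top (R := A) (M := M)
  refine ⟨s.card, fun x => ?_⟩
  let K := x.asIdeal.ResidueField
  have h : Submodule.span K (((s.image fun m : M => (1 : K) ⊗ₜ[A] m) : Finset (K ⊗[A] M)) : Set (K ⊗[A] M)) = ⊤ := by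
    rw [Finset.coe_image]
    exact FCx40.span_one_tmul_eq_top K M hs
  have h1 := finrank_span_finset_le_card (R := K) (s.image fun m : M => (1 : K) ⊗ₜ[A] m)
  rw [Set.finrank, h, finrank_top] at h1
  exact h1.trans Finset.card_image_le

theorem isClosed_le_fib (c : ℚ) : IsClosed {x : PrimeSpectrum A | c ≤ (FCx40.fib M x : ℚ)} := by
  have h : {x : PrimeSpectrum A | c ≤ (FCx40.fib M x : ℚ)} = (FCx40.fib (A := A) M) ⁻¹' Set.Ici ⌈c⌉₊ := by
    ext x
    exact (Nat.ceil_le (a := c) (n := FCx40.fib M x)).symm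
  rw [h]
  exact upperSemicontinuous_iff_isClosed_preimage.1 (FCx40.upperSemicontinuous_fib M) _

end Fib

variable {X S : Scheme.{u}} (f : X ⟶ S) [IsProper f] [LocallyOfFinitePresentation f] {L : X.Modules}
  (hL : RelAmple.IsRelAmple f L) {F : X.Modules} (hF : CohB1.IsFP F)

include hL hF in
theorem finite_fibPoly {V : S.Opens} (hV : IsAffineOpen V) :
    (fibPoly f L F '' (V : Set S)).Finite := by
  obtain ⟨A₀, hA₀, φ, M, N, D, hpoly, hM⟩ := exists_fib_data f hL hF hV
  have hb : ∀ j : Fin (D + 1), ∃ b : ℕ, ∀ x : PrimeSpectrum A₀, FCx40.fib (M (N + j)) x ≤ b := fun j => by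
    haveI := (hM (N + j) (by omega)).1
    exact exists_fib_le (M (N + j))
  choose b hb using hb
  let box : ((Fin 1 → ℕ) → ℚ) → (Fin (D + 1) → ℚ) := fun h j => h fun _ => N + j
  refine Set.Finite.of_injOn (f := box) (t := Set.pi Set.univ fun j => (fun v : ℕ => (v : ℚ)) '' Set.Iic (b j))
    ?_ ?_ (Set.Finite.pi fun j => (Set.finite_Iic _).image _)
  · rintro _ ⟨y, hy, rfl⟩ j -
    exact ⟨_, hb j _, by
      show _ = (fibEuler f L F y (N + j) : ℚ)
      rw [(hM (N + j) (by omega)).2 y hy, Int.cast_natCast]⟩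
  · rintro _ ⟨y, hy, rfl⟩ _ ⟨z, hz, rfl⟩ h
    exact eq_of_eq_tail N (hpoly y hy) (hpoly z hz) fun j hj => congrFun h ⟨j, by omega⟩

include hL hF in
/-- Finitely many Hilbert polynomials. -/
theorem finite_range_fibEuler [CompactSpace S] : (Set.range fun s : S => fibEuler f L F s).Finite := by
  obtain ⟨t, ht⟩ := isCompact_univ.elim_finite_subcover (fun V : S.affineOpens => ((V : S.Opens) : Set S))
    (fun V => (V : S.Opens).2) fun s _ => by
      obtain ⟨V, hV, hsV, -⟩ := exists_isAffineOpen_mem_and_subset (x := s) (U := ⊤) trivial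
      exact Set.mem_iUnion.2 ⟨⟨V, hV⟩, hsV⟩
  have h : (Set.range fun s : S => fibPoly f L F s).Finite :=
    (t.finite_toSet.biUnion fun V _ => finite_fibPoly f hL hF V.2).subset (by
      rintro _ ⟨s, rfl⟩
      obtain ⟨V, hV, hs⟩ := Set.mem_iUnion₂.1 (ht (Set.mem_univ s))
      exact Set.mem_biUnion hV ⟨s, hs, rfl⟩)
  refine Set.Finite.of_injOn (f := fun h : ℕ → ℤ => fun m : Fin 1 → ℕ => (h (m 0) : ℚ)) ?_ ?_ h
  · rintro _ ⟨s, rfl⟩
    exact ⟨s, rfl⟩
  · exact fun a _ b _ hab => funext fun n => Int.cast_injective (congrFun hab fun _ => n)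

include hL hF in
/-- Semicontinuity of the Hilbert polynomial. -/
theorem isClosed_eventually_le_fibEuler (Φ : ℕ → ℚ) :
    IsClosed {s : S | ∃ N : ℕ, ∀ n, N ≤ n → Φ n ≤ (fibEuler f L F s n : ℚ)} := by
  classical
  rw [TopologicalSpace.IsOpenCover.isClosed_iff_coe_preimage (iSup_affineOpens_eq_top S)]
  intro V
  obtain ⟨A₀, hA₀, φ, M, N, D, hpoly, hM⟩ := exists_fib_data f hL hF V.2
  let P : ((Fin 1 → ℕ) → ℚ) → ℕ → Prop := fun h m => ∀ n, m ≤ n → Φ n ≤ h fun _ => n
  let T := (finite_fibPoly f hL hF V.2).toFinset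
  let bound : ((Fin 1 → ℕ) → ℚ) → ℕ := fun h => if hh : ∃ m, P h m then hh.choose else 0
  let N₁ := max N (T.sup bound)
  let c : V.1 → PrimeSpectrum A₀ := fun y => PrimeSpectrum.comap φ.hom (V.2.primeIdealOf y)
  have hc : Continuous c := (PrimeSpectrum.continuous_comap φ.hom).comp V.2.isoSpec.hom.base.hom.continuous
  have hset : (Subtype.val ⁻¹' {s : S | ∃ m : ℕ, ∀ n, m ≤ n → Φ n ≤ (fibEuler f L F s n : ℚ)} : Set V.1) =
      ⋂ n ∈ Set.Ici N₁, c ⁻¹' {x | Φ n ≤ (FCx40.fib (M n) x : ℚ)} := by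
    ext ⟨y, hy⟩
    refine Iff.trans ?_ Set.mem_iInter₂.symm
    constructor
    · intro hex n hn
      have hT : fibPoly f L F y ∈ T := (Set.Finite.mem_toFinset _).2 ⟨y, hy, rfl⟩
      have hP : ∃ m, P (fibPoly f L F y) m := hex
      have h1 : bound (fibPoly f L F y) ≤ n :=
        (Finset.le_sup (f := bound) hT).trans ((le_max_right N _).trans hn)
      have h2 : Φ n ≤ (fibEuler f L F y n : ℚ) := hP.choose_spec n (by simpa only [bound, dif_pos hP] using h1)
      rw [(hM n ((le_max_left _ _).trans hn)).2 y hy, Int.cast_natCast] at h2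
      exact h2
    · intro hall
      refine ⟨N₁, fun n hn => ?_⟩
      rw [(hM n ((le_max_left _ _).trans hn)).2 y hy, Int.cast_natCast]
      exact hall n hn
  refine (congrArg IsClosed hset).mpr (isClosed_biInter fun n hn => ?_)
  exact by
    haveI := (hM n ((le_max_left _ _).trans hn)).1
    exact (isClosed_le_fib (M n) (Φ n)).preimage hc

end Groth.Agent.Hilb75

end
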