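import Groth.Agent.Hilb75.FlatCycles
import Groth.Agent.Hilb75.Strata
import Groth.Agent.FCx40.Local
import Groth.Agent.Props58.LocFree.Affine
import Groth.Agent.FlatMor68.LocFree
import Groth.Agent.QCqs72.Basic
import Groth.Agent.QCCohInd72.Basic
import Groth.Agent.Flat75.Const
import Mathlib.RingTheory.LocalProperties.Reduced

/-! Flatness, local freeness of the direct images of twists, and the Hilbert polynomial. -/

set_option autoImplicit false
set_option maxSynthPendingDepth 6
set_option synthInstance.maxHeartbeats 200000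
set_option linter.style.haveILetI false
set_option backward.isDefEq.respectTransparency.types false

universe u

noncomputable section

open CategoryTheory CategoryTheory.Limits AlgebraicGeometry TopologicalSpace Opposite TensorProduct Function

namespace Groth.Agent.Hilb75

open Mum71 Coh69 CechComp71 FF71

/-- Over a reduced ring a finite module with locally constant fibre ranks is flat. -/
theorem flat_of_fib_locConst {A : Type u} [CommRing A] [_root_.IsReduced A] (M : Type u) [AddCommGroup M]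
    [Module A M] [Module.Finite A M] (h : IsLocallyConstant (FCx40.fib (A := A) M)) : Module.Flat A M := by
  refine Module.flat_of_localized_maximal _ fun P hP => ?_
  let R := Localization.AtPrime P
  haveI : Module.Free R (R ⊗[A] M) := by
    refine FCx40.free_of_fib_eq (R ⊗[A] M) fun q _ => ?_
    have key : ∀ q : PrimeSpectrum R, FCx40.fib (R ⊗[A] M) q =
        FCx40.fib M (PrimeSpectrum.comap (algebraMap A R) q) := fun q => by
      rw [← FGA29.EulerLC.finrank_tensor_eq_fib q.asIdeal.ResidueField M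
        (PrimeSpectrum.comap (algebraMap A R) q) (by
          rw [PrimeSpectrum.comap_asIdeal, IsScalarTower.algebraMap_eq A R q.asIdeal.ResidueField,
            ← RingHom.comap_ker, Ideal.ker_algebraMap_residueField])]
      exact (AlgebraTensorModule.cancelBaseChange A R q.asIdeal.ResidueField q.asIdeal.ResidueField M).finrank_eq
    rw [key, key]
    obtain ⟨U, hU, hxU, hUeq⟩ := (IsLocallyConstant.iff_exists_open _).1 h
      (PrimeSpectrum.comap (algebraMap A R) (IsLocalRing.closedPoint R))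
    refine hUeq _ ?_
    have hs : PrimeSpectrum.comap (algebraMap A R) q ⤳
        PrimeSpectrum.comap (algebraMap A R) (IsLocalRing.closedPoint R) :=
      ((PrimeSpectrum.le_iff_specializes q (IsLocalRing.closedPoint R)).1
        (IsLocalRing.le_maximalIdeal q.isPrime.ne_top)).map (PrimeSpectrum.continuous_comap _)
    exact hs.mem_open hU hxU
  haveI : Module.Flat R (LocalizedModule P.primeCompl M) :=
    Module.Flat.of_linearEquiv (LocalizedModule.equivTensorProduct P.primeCompl M)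
  exact Module.Flat.trans A R (LocalizedModule P.primeCompl M)

variable {X S : Scheme.{u}} (f : X ⟶ S) {V : S.Opens} (hV : IsAffineOpen V) {L F : X.Modules}

theorem isAmple_pullback_ι (hL : RelAmple.IsRelAmple f L) (hV : IsAffineOpen V) :
    CohB1.IsAmple ((Scheme.Modules.pullback (f ⁻¹ᵁ V).ι).obj L) :=
  Amp73.isAmple_of_iso ((Scheme.Modules.restrictFunctorIsoPullback (f ⁻¹ᵁ V).ι).app L) (hL.2 ⟨V, hV⟩)

/-- Flatness at points over an affine open is flatness over its ring of functions. -/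
theorem isFlatOverAt_of_affBase [F.IsQuasicoherent] (x : (f ⁻¹ᵁ V).toScheme)
    (h : FlatMod.IsFlatOverAt (Mum71.affBase f hV) ((Scheme.Modules.pullback (f ⁻¹ᵁ V).ι).obj F) x) :
    FlatMod.IsFlatOverAt f F ((f ⁻¹ᵁ V).ι x) :=
  FlatMor66.isFlatOverAt_of_baseChange (Mum71.isPullback_affBase f hV) F ‹F.IsQuasicoherent› x
    (RingHom.Flat.of_bijective (ConcreteCategory.bijective_of_isIso _)) h

section LocConst

variable [IsProper f] [IsLocallyNoetherian S]

set_option maxHeartbeats 1000000 in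
/-- On a reduced Noetherian base constant Hilbert polynomials force flatness. -/
theorem isFlatOverAt_of_locConst [IsReduced S] (hV : IsAffineOpen V) (hL : RelAmple.IsRelAmple f L)
    (hF : Coh.IsCoh F) (h : ∀ n, IsLocallyConstant fun s : S => fibEuler f L F s n) (x : (f ⁻¹ᵁ V).toScheme) :
    FlatMod.IsFlatOverAt f F ((f ⁻¹ᵁ V).ι x) := by
  haveI := hF.1
  haveI := hF.2
  refine isFlatOverAt_of_affBase f hV x ?_
  haveI : IsNoetherianRing Γ(S, V) := IsLocallyNoetherian.component_noetherian ⟨V, hV⟩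
  let W := f ⁻¹ᵁ V
  letI : W.toScheme.Over (Spec (CommRingCat.of Γ(S, V))) := ⟨Mum71.affBase f hV⟩
  haveI hprop : IsProper (W.toScheme ↘ Spec (CommRingCat.of Γ(S, V))) :=
    MorphismProperty.of_isPullback (P := @IsProper) (Mum71.isPullback_affBase f hV) ‹IsProper f›
  haveI : W.toScheme.IsSeparated :=
    ⟨by rw [← terminal.comp_from (W.toScheme ↘ Spec (CommRingCat.of Γ(S, V)))]; infer_instance⟩
  have hL₀ := isAmple_pullback_ι f hL hV
  haveI : CompactSpace W.toScheme := hL₀.2.1
  let F₀ := (Scheme.Modules.pullback W.ι).obj F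
  let L₀ := (Scheme.Modules.pullback W.ι).obj L
  have hF₀ : Coh.IsCoh F₀ := ⟨QCPull72.isQuasicoherent_pullback _ F, QCPull72.isFiniteType_pullback _ F⟩
  haveI := hF₀.1
  obtain ⟨ι, _, U, hU⟩ := exists_goodCover hL₀.1
  have hq : IsPullback (𝟙 W.toScheme) (Mum71.affBase f hV) (W.toScheme ↘ Spec (CommRingCat.of Γ(S, V)))
      (Spec.map (𝟙 Γ(S, V))) :=
    haveI : IsIso (Spec.map (𝟙 Γ(S, V))) := inferInstance
    IsPullback.of_horiz_isIso ⟨by
      show 𝟙 _ ≫ Mum71.affBase f hV = Mum71.affBase f hV ≫ Spec.map (𝟙 Γ(S, V))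
      erw [Spec.map_id, Category.comp_id]
      exact Category.id_comp _⟩
  obtain ⟨N, hN⟩ := exists_fib_data_of_model f hV (L := L) (F := F) (A₀ := Γ(S, V)) (𝟙 Γ(S, V)) hL₀ hF₀
    (𝟙 W.toScheme) hq ((Scheme.Modules.pullbackId _).app L₀) ((Scheme.Modules.pullbackId _).app F₀)
    (Amp73.isInvertible_of_isRelAmple hL) hU
  have hflat : ∀ n, N ≤ n → Module.Flat Γ(S, V) (Γ(S, V) ⊗[Γ(S, V)] Γ(tw F₀ L₀ n, ⊤)) := by
    intro n hn
    obtain ⟨e, -⟩ := exists_topKer Γ(S, V) hU.top (tw F₀ L₀ n)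
    haveI := (hN n hn).1
    haveI : Module.Flat Γ(S, V) (LinearMap.ker (Mum71.cdL Γ(S, V) U (tw F₀ L₀ n) 0)) := by
      refine flat_of_fib_locConst _ ((IsLocallyConstant.iff_exists_open _).2 fun p => ?_)
      have hy : hV.fromSpec p ∈ V := Mum71.mem_of_fromSpec' hV p
      obtain ⟨O, hO, hpO, hOeq⟩ := (IsLocallyConstant.iff_exists_open _).1 (h n) (hV.fromSpec p)
      refine ⟨hV.fromSpec ⁻¹' O, hO.preimage hV.fromSpec.continuous, hpO, fun q hq' => ?_⟩
      have h1 := (hN n hn).2 (hV.fromSpec q) (Mum71.mem_of_fromSpec' hV q)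
      have h2 := (hN n hn).2 (hV.fromSpec p) hy
      rw [Mum71.primeIdealOf_fromSpec hV, CommRingCat.hom_id, PrimeSpectrum.comap_id] at h1 h2
      have := (h1.symm.trans (hOeq _ hq')).trans h2
      exact_mod_cast this
    exact Module.Flat.of_linearEquiv ((TensorProduct.lid Γ(S, V) _).trans e)
  have hsq : IsPullback (𝟙 W.toScheme) (W.toScheme ↘ Spec (CommRingCat.of Γ(S, V)))
      (W.toScheme ↘ Spec (CommRingCat.of Γ(S, V))) (Spec.map (CommRingCat.ofHom (algebraMap Γ(S, V) Γ(S, V)))) := by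
    rw [show CommRingCat.ofHom (algebraMap Γ(S, V) Γ(S, V)) = 𝟙 _ from rfl, Spec.map_id]
    exact IsPullback.of_horiz_isIso ⟨by rw [Category.id_comp, Category.comp_id]⟩
  exact FlatMor66.isFlatOverAt_of_iso _ ((Scheme.Modules.pullbackId _).app F₀) x
    (isFlatOver_of_flat_tensor hsq hL₀ F₀ N hflat x)

theorem isFlatOver_iff_locConst [IsReduced S] (hL : RelAmple.IsRelAmple f L) (hF : Coh.IsCoh F) :
    FlatMod.IsFlatOver f F ↔ ∀ s : S, ∃ U : S.Opens, s ∈ U ∧ ∀ s' : S, s' ∈ U → ∀ n : ℕ,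
      fibEuler f L F s' n = fibEuler f L F s n := by
  haveI : LocallyOfFinitePresentation f := inferInstance
  haveI : IsLocallyNoetherian X := LocallyOfFiniteType.isLocallyNoetherian f
  constructor
  · intro hfl s
    obtain ⟨U, hs, hU⟩ := Flat75.euler_tensorPows_locConst f F (QCCohInd72.isFP_of_isCoh hF) hfl
      (t := 1) (fun _ => L) (fun _ => Amp73.isInvertible_of_isRelAmple hL) s
    exact ⟨U, hs, fun s' hs' n => hU s' hs' fun _ => n⟩
  · intro h x
    have hlc : ∀ n, IsLocallyConstant fun s : S => fibEuler f L F s n := fun n =>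
      (IsLocallyConstant.iff_exists_open _).2 fun s => by
        obtain ⟨U, hs, hU⟩ := h s
        exact ⟨U, U.2, hs, fun s' hs' => hU s' hs' n⟩
    obtain ⟨V, hV, hxV, -⟩ := exists_isAffineOpen_mem_and_subset (x := f x) (U := ⊤) trivial
    exact isFlatOverAt_of_locConst f hV hL hF hlc ⟨x, hxV⟩

end LocConst

section Push

variable [IsProper f] [LocallyOfFinitePresentation f] [F.IsQuasicoherent]
  (hL : RelAmple.IsRelAmple f L) (hF : CohB1.IsFP F)

set_option maxHeartbeats 1000000 in
include hL hF in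
/-- Over an affine open the direct images of large twists of a flat family are finite projective. -/
theorem exists_projective_push (hV : IsAffineOpen V) (hfl : FlatMod.IsFlatOver f F) :
    ∃ N, ∀ n, N ≤ n →
      Module.Finite Γ(S, V) Γ((Coh.push f).obj (tw F L n), V) ∧
        Module.Projective Γ(S, V) Γ((Coh.push f).obj (tw F L n), V) := by
  obtain ⟨A₀, hA₀, φ, X₀, f₀, hf₀, L₀, hL₀, F₀, hF₀, q, hq, ⟨eL⟩, ⟨eF⟩⟩ := exists_chart_model f hV hL hF
  let B := Γ(S, V)
  let W := f ⁻¹ᵁ V
  letI : X₀.Over (Spec (CommRingCat.of A₀)) := ⟨f₀⟩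
  haveI : IsProper (X₀ ↘ Spec (CommRingCat.of A₀)) := hf₀
  haveI : X₀.IsSeparated := ⟨by rw [← terminal.comp_from f₀]; infer_instance⟩
  haveI : CompactSpace X₀ := hL₀.2.1
  letI : Algebra A₀ B := φ.hom.toAlgebra
  letI : W.toScheme.Over (Spec (CommRingCat.of B)) := ⟨Mum71.affBase f hV⟩
  have hsq : IsPullback q (W.toScheme ↘ Spec (CommRingCat.of B)) (X₀ ↘ Spec (CommRingCat.of A₀))
      (Spec.map (CommRingCat.ofHom (algebraMap A₀ B))) := hq
  obtain ⟨ι, _, U, hU⟩ := exists_goodCover hL₀.1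
  obtain ⟨N, hN⟩ := exists_flat_cycles (A := A₀) hU hF₀ hL₀
  haveI := hF₀.1
  have hft : FlatTerms A₀ U F₀ B := flatTerms_of_isFlatOver hU.affine B hsq fun x =>
    FlatMor66.isFlatOverAt_of_iso _ eF.symm x
      (FlatMor66.isFlatOverAt_baseChange (Mum71.isPullback_affBase f hV) F ‹F.IsQuasicoherent› x (hfl _))
  refine ⟨N, fun n hn => ?_⟩
  obtain ⟨hfin, -, hall⟩ := hN n hn
  obtain ⟨hproj, hbij⟩ := hall B hft
  haveI : IsLocallyNoetherian X₀ := LocallyOfFiniteType.isLocallyNoetherian f₀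
  haveI := (isCoh_tw hF₀ hL₀.1 n).1
  obtain ⟨E, hE, -⟩ := exists_bc_equiv hsq (G := tw F₀ L₀ n) hU.affine
  have hV' : ⨆ i, preU q U i = ⊤ := by
    show ⨆ i, q ⁻¹ᵁ U i = ⊤
    rw [← Scheme.Hom.preimage_iSup, hU.top]
    rfl
  obtain ⟨e, -⟩ := exists_topKer B hV' ((Scheme.Modules.pullback q).obj (tw F₀ L₀ n))
  let Φ : (Scheme.Modules.pullback q).obj (tw F₀ L₀ n) ≅ (tw F L n).restrict W.ι :=
    twPullIso q F₀ hL₀.1 n ≪≫ EGA73.tensIso eF (Amp73.powIso eL n) ≪≫
      (twPullIso W.ι F (Amp73.isInvertible_of_isRelAmple hL) n).symm ≪≫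
      ((Scheme.Modules.restrictFunctorIsoPullback W.ι).app (tw F L n)).symm
  let T : Γ((tw F L n).restrict W.ι, ⊤) ≃ₗ[B] Γ((Coh.push f).obj (tw F L n), V) :=
    { toAddEquiv := (Mum71.topRestrict W (tw F L n)).symm
      map_smul' := fun a z => by
        show (Mum71.topRestrict W (tw F L n)).symm (rA B W.toScheme ⊤ a • z) =
          f.app V a • (Mum71.topRestrict W (tw F L n)).symm z
        rw [AddEquiv.symm_apply_eq, Mum71.topRestrict_smul, AddEquiv.apply_symm_apply]
        refine congrArg (· • z) ?_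
        refine Eq.trans ?_ (Mum71.toGlobal_affBase f hV a)
        exact QC70.resO_self _ }
  let M := LinearMap.ker (Mum71.cdL A₀ U (tw F₀ L₀ n) 0)
  let Etot : B ⊗[A₀] M ≃ₗ[B] Γ((Coh.push f).obj (tw F L n), V) :=
    (LinearEquiv.ofBijective _ hbij).trans (((E 0).ofSubmodules _ _ (map_ker_eq (E 0) (E 1) (hE 0))).trans
      (e.symm.trans ((secA B Φ ⊤).trans T)))
  haveI := hfin
  haveI := hproj
  exact ⟨Module.Finite.equiv Etot, Module.Projective.of_equiv Etot⟩

include hL hF in
theorem exists_push_finLocFree_of_flat [CompactSpace S] (hfl : FlatMod.IsFlatOver f F) :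
    ∃ N : ℕ, ∀ n, N ≤ n → FlatMod.IsFinLocFree ((Coh.push f).obj (tw F L n)) := by
  classical
  obtain ⟨t, ht⟩ := isCompact_univ.elim_finite_subcover (fun V : S.affineOpens => ((V : S.Opens) : Set S))
    (fun V => (V : S.Opens).2) fun s _ => by
      obtain ⟨V, hV, hsV, -⟩ := exists_isAffineOpen_mem_and_subset (x := s) (U := ⊤) trivial
      exact Set.mem_iUnion.2 ⟨⟨V, hV⟩, hsV⟩
  choose N hN using fun V : S.affineOpens => exists_projective_push f hL hF V.2 hfl
  refine ⟨t.sup N, fun n hn => ?_⟩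
  haveI : (tw F L n).IsQuasicoherent :=
    Amp73.isQCoh_tensorMod ‹F.IsQuasicoherent› (Mero90.isQCoh_of_isInvertible
      (EGA73.isInvertible_tensorPow (Amp73.isInvertible_of_isRelAmple hL) n))
  haveI : ((Coh.push f).obj (tw F L n)).IsQuasicoherent :=
    QCqs72.isQuasicoherent_pushforward (M := tw F L n) f
  refine FlatMor68.LocFree.isFinLocFree_of_projective_sections _ fun s => ?_
  obtain ⟨V, hV, hs⟩ := Set.mem_iUnion₂.1 (ht (Set.mem_univ s))
  obtain ⟨h1, h2⟩ := hN V n ((Finset.le_sup hV).trans hn)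
  exact ⟨V.1, V.2, hs, h2, h1⟩

omit [LocallyOfFinitePresentation f] in
include hL in
theorem isFlatOver_of_push_finLocFree (N : ℕ)
    (h : ∀ n, N ≤ n → FlatMod.IsFinLocFree ((Coh.push f).obj (tw F L n))) : FlatMod.IsFlatOver f F := by
  refine AmpleFlat.isFlatOver_of_flat_sections f hL ‹F.IsQuasicoherent› N fun n hn V => ?_
  haveI : Module.Projective Γ(S, V.1) Γ((Coh.push f).obj (tw F L n), V.1) :=
    haveI := Props58.LocFree.isQuasicoherent_of_isFinLocFree (h n hn)
    Props58.LocFree.projective_sections (h n hn) V.2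
  exact (inferInstance : Module.Flat Γ(S, V.1) Γ((Coh.push f).obj (tw F L n), V.1))

end Push

end Groth.Agent.Hilb75

end
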