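import Groth.Agent.Hilb75.Glue
import Groth.Agent.Crv77.BaseChange

/-! The flattening stratum with a given Hilbert polynomial. -/

set_option autoImplicit false
set_option maxSynthPendingDepth 6
set_option synthInstance.maxHeartbeats 200000
set_option linter.style.haveILetI false
set_option backward.isDefEq.respectTransparency.types false

universe u

noncomputable section

open CategoryTheory CategoryTheory.Limits AlgebraicGeometry TopologicalSpace Opposite TensorProduct Function

namespace Groth.Agent.Hilb75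

open Mum71 Coh69 CechComp71 FF71

/-- A polynomial as a function on exponents. -/
theorem eval_mem_polySub (Φ : Polynomial ℚ) {D : ℕ} (hD : Φ.natDegree ≤ D) :
    (fun m : Fin 1 → ℕ => Φ.eval ((m 0 : ℕ) : ℚ)) ∈ Snapper75.polySub 1 (D + 1) := by
  have h : (fun m : Fin 1 → ℕ => Φ.eval ((m 0 : ℕ) : ℚ)) =
      ∑ i ∈ Finset.range (Φ.natDegree + 1), Φ.coeff i • Snapper75.monoFn (fun _ : Fin 1 => i) := by
    funext m
    rw [Polynomial.eval_eq_sum_range, Finset.sum_apply]
    exact Finset.sum_congr rfl fun i _ => by simp [Snapper75.monoFn]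
  rw [h]
  refine Submodule.sum_mem _ fun i hi => Submodule.smul_mem _ _ (Snapper75.monoFn_mem ?_)
  rw [Fin.sum_univ_one]
  have := Finset.mem_range.1 hi
  omega

variable {X S : Scheme.{u}} (f : X ⟶ S) (L F : X.Modules)

/-- The Hilbert polynomial of every fibre over the image. -/
def HilbAt (Φ : Polynomial ℚ) {T : Scheme.{u}} (g : T ⟶ S) : Prop :=
  ∀ (t : T) (n : ℕ), (fibEuler f L F (g t) n : ℚ) = Φ.eval (n : ℚ)

/-- The flattening property. -/
def FlatHilb (Φ : Polynomial ℚ) {T : Scheme.{u}} (g : T ⟶ S) : Prop :=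
  FlatMod.IsFlatOver (pullback.snd f g) ((Scheme.Modules.pullback (pullback.fst f g)).obj F) ∧ HilbAt f L F Φ g

section Comp

variable {T T' : Scheme.{u}} (h : T' ⟶ T) (g : T ⟶ S)

/-- The map of the base changes. -/
abbrev bcMap : pullback f (h ≫ g) ⟶ pullback f g :=
  pullback.lift (pullback.fst f (h ≫ g)) (pullback.snd f (h ≫ g) ≫ h)
    (by rw [pullback.condition, Category.assoc])

theorem bcMap_fst : bcMap f h g ≫ pullback.fst f g = pullback.fst f (h ≫ g) := pullback.lift_fst _ _ _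

theorem isPullback_bcMap : IsPullback (bcMap f h g) (pullback.snd f (h ≫ g)) (pullback.snd f g) h := by
  refine IsPullback.of_right ?_ (pullback.lift_snd _ _ _) (IsPullback.of_hasPullback f g)
  rw [bcMap_fst]
  exact IsPullback.of_hasPullback f (h ≫ g)

variable [F.IsQuasicoherent]

theorem isFlatOverAt_bcMap (x' : ↥(pullback f (h ≫ g)))
    (H : FlatMod.IsFlatOverAt (pullback.snd f g) ((Scheme.Modules.pullback (pullback.fst f g)).obj F)
      (bcMap f h g x')) :
    FlatMod.IsFlatOverAt (pullback.snd f (h ≫ g)) ((Scheme.Modules.pullback (pullback.fst f (h ≫ g))).obj F) x' :=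
  FlatMor66.isFlatOverAt_of_iso _
    ((LimTop61.pullbackCompIso (pullback.fst f g) (bcMap f h g) (bcMap_fst f h g)).app F) x'
    (FlatMor66.isFlatOverAt_baseChange (isPullback_bcMap f h g) _
      (QCPull72.isQuasicoherent_pullback (pullback.fst f g) F) x' H)

theorem isFlatOverAt_of_bcMap [IsOpenImmersion h] (x' : ↥(pullback f (h ≫ g)))
    (H : FlatMod.IsFlatOverAt (pullback.snd f (h ≫ g))
      ((Scheme.Modules.pullback (pullback.fst f (h ≫ g))).obj F) x') :
    FlatMod.IsFlatOverAt (pullback.snd f g) ((Scheme.Modules.pullback (pullback.fst f g)).obj F)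
      (bcMap f h g x') :=
  FlatMor66.isFlatOverAt_of_baseChange (isPullback_bcMap f h g) _
    (QCPull72.isQuasicoherent_pullback (pullback.fst f g) F) x'
    (RingHom.Flat.of_bijective (ConcreteCategory.bijective_of_isIso _))
    (FlatMor66.isFlatOverAt_of_iso _
      ((LimTop61.pullbackCompIso (pullback.fst f g) (bcMap f h g) (bcMap_fst f h g)).app F).symm x' H)

theorem mem_range_bcMap [IsOpenImmersion h] (x : ↥(pullback f g)) (hx : pullback.snd f g x ∈ Set.range h) :
    x ∈ Set.range (bcMap f h g) := by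
  obtain ⟨t', ht'⟩ := hx
  obtain ⟨z, hz, -⟩ := Scheme.Pullback.exists_preimage_pullback (f := pullback.snd f g) (g := h) x t' ht'.symm
  refine ⟨(isPullback_bcMap f h g).isoPullback.inv z, ?_⟩
  rw [← Scheme.Hom.comp_apply, IsPullback.isoPullback_inv_fst]
  exact hz

variable (Φ : Polynomial ℚ)

theorem flatHilb_comp (H : FlatHilb f L F Φ g) : FlatHilb f L F Φ (h ≫ g) :=
  ⟨fun x' => isFlatOverAt_bcMap f F h g x' (H.1 _), fun t n => H.2 (h t) n⟩

end Comp

theorem flatHilb_loc [F.IsQuasicoherent] (Φ : Polynomial ℚ) {T : Scheme.{u}} (g : T ⟶ S)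
    (H : ∀ t : T, ∃ O : T.Opens, t ∈ O ∧ FlatHilb f L F Φ (O.ι ≫ g)) : FlatHilb f L F Φ g := by
  refine ⟨fun x => ?_, fun t n => ?_⟩
  · obtain ⟨O, hO, hP⟩ := H (pullback.snd f g x)
    obtain ⟨x', hx'⟩ := mem_range_bcMap f O.ι g x ⟨⟨_, hO⟩, rfl⟩
    subst hx'
    exact isFlatOverAt_of_bcMap f F O.ι g x' (hP.1 x')
  · obtain ⟨O, hO, hP⟩ := H t
    exact hP.2 ⟨t, hO⟩ n

variable [IsProper f] [LocallyOfFinitePresentation f] {L F}

set_option maxHeartbeats 1000000 in
/-- The ideals of the flattening stratum on an affine open. -/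
theorem exists_spec_ideals (hL : RelAmple.IsRelAmple f L) (hF : CohB1.IsFP F) (Φ : Polynomial ℚ)
    {V : S.Opens} (hV : IsAffineOpen V) :
    ∃ a b : Ideal Γ(S, V), a.FG ∧ b.FG ∧ ∀ (R : CommRingCat.{u}) (q : Γ(S, V) ⟶ R),
      FlatHilb f L F Φ (Spec.map q ≫ hV.fromSpec) ↔ a.map q.hom = ⊥ ∧ b.map q.hom = ⊤ := by
  classical
  haveI := hF
  haveI : F.IsQuasicoherent := inferInstance
  haveI : F.IsFiniteType := inferInstance
  have hLi := Amp73.isInvertible_of_isRelAmple hL
  obtain ⟨A₀, hA₀, φ, X₀, f₀, hf₀, L₀, hL₀, F₀, hF₀, q₀, hq₀, ⟨eL⟩, ⟨eF⟩⟩ := exists_chart_model f hV hL hF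
  obtain ⟨d, hd⟩ := Flat75.exists_dim_bound f hV.isCompact
  letI : X₀.Over (Spec (CommRingCat.of A₀)) := ⟨f₀⟩
  haveI : IsProper (X₀ ↘ Spec (CommRingCat.of A₀)) := hf₀
  haveI : X₀.IsSeparated := ⟨by rw [← terminal.comp_from f₀]; infer_instance⟩
  haveI : CompactSpace X₀ := hL₀.2.1
  obtain ⟨ι, _, U, hU⟩ := exists_goodCover hL₀.1
  obtain ⟨N₁, hN₁⟩ := exists_fib_data_of_model f hV (A₀ := A₀) φ hL₀ hF₀ q₀ hq₀ eL eF hLi hU
  let D := max d Φ.natDegree
  let M := fun n => LinearMap.ker (Mum71.cdL A₀ U (tw F₀ L₀ n) 0)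
  have hpts : ∀ (R : CommRingCat.{u}) (q : Γ(S, V) ⟶ R) (p : PrimeSpectrum R) (n : ℕ), N₁ ≤ n →
      fibEuler f L F ((Spec.map q ≫ hV.fromSpec) p) n =
        (FCx40.fib (M n) (PrimeSpectrum.comap (φ ≫ q).hom p) : ℤ) := fun R q p n hn => by
    have h := (hN₁ n hn).2 (hV.fromSpec (PrimeSpectrum.comap q.hom p)) (Mum71.mem_of_fromSpec' hV _)
    rw [Mum71.primeIdealOf_fromSpec hV] at h
    exact h
  have hpoly : ∀ (R : CommRingCat.{u}) (q : Γ(S, V) ⟶ R) (p : PrimeSpectrum R),
      fibPoly f L F ((Spec.map q ≫ hV.fromSpec) p) ∈ Snapper75.polySub 1 (D + 1) := fun R q p =>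
    fibPoly_mem f hLi _ D ((hd _ (Mum71.mem_of_fromSpec' hV (PrimeSpectrum.comap q.hom p))).trans
      (by exact_mod_cast le_max_left d Φ.natDegree))
  by_cases hnat : ∀ n, N₁ ≤ n → ∃ r : ℕ, (r : ℚ) = Φ.eval (n : ℚ)
  swap
  · push Not at hnat
    obtain ⟨n, hn, hn'⟩ := hnat
    refine ⟨⊤, ⊤, ⟨{1}, by simp⟩, ⟨{1}, by simp⟩, fun R q => ?_⟩
    rw [Ideal.map_top]
    constructor
    · intro h
      refine ⟨?_, rfl⟩
      by_contra hne
      haveI : Nontrivial R := by
        rcases subsingleton_or_nontrivial R with hs | hs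
        · exact absurd (Subsingleton.elim _ _) hne
        · exact hs
      obtain ⟨p⟩ : Nonempty (PrimeSpectrum R) := inferInstance
      refine hn' (FCx40.fib (M n) (PrimeSpectrum.comap (φ ≫ q).hom p)) ?_
      rw [← h.2 p n, hpts R q p n hn, Int.cast_natCast]
    · rintro ⟨h, -⟩
      haveI : Subsingleton R := subsingleton_of_zero_eq_one
        (((Submodule.mem_bot R).1 (h ▸ (Submodule.mem_top (x := (1 : R))))).symm)
      haveI : IsEmpty ↥(Spec R) := inferInstanceAs (IsEmpty (PrimeSpectrum R))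
      exact ⟨fun x => isEmptyElim (pullback.snd f (Spec.map q ≫ hV.fromSpec) x), fun t => isEmptyElim t⟩
  let r : ℕ → ℕ := fun n => if h : N₁ ≤ n then (hnat n h).choose else 0
  have hr : ∀ n, N₁ ≤ n → (r n : ℚ) = Φ.eval (n : ℚ) := fun n hn => by
    simp only [r, dif_pos hn]
    exact (hnat n hn).choose_spec
  obtain ⟨N, a, b, hN, ha, hb, hab⟩ := exists_stratum_ideals (A := A₀) hU hF₀ hL₀ r N₁ D
  refine ⟨a.map φ.hom, b.map φ.hom, ha.map _, hb.map _, fun R q => ?_⟩
  rw [Ideal.map_map, Ideal.map_map]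
  set g := Spec.map q ≫ hV.fromSpec with hg
  letI : Algebra A₀ R := (φ ≫ q).hom.toAlgebra
  letI : (pullback f g).Over (Spec (CommRingCat.of R)) := ⟨pullback.snd f g⟩
  let m : pullback f g ⟶ (f ⁻¹ᵁ V).toScheme := (Mum71.isPullback_affBase f hV).lift (pullback.fst f g)
    (pullback.snd f g ≫ Spec.map q) (by rw [pullback.condition, hg, Category.assoc])
  have hm : m ≫ (f ⁻¹ᵁ V).ι = pullback.fst f g := IsPullback.lift_fst _ _ _ _
  have outer : IsPullback (pullback.fst f g) (pullback.snd f g) f (Spec.map q ≫ hV.fromSpec) :=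
    IsPullback.of_hasPullback f g
  have hsq₁ : IsPullback m (pullback.snd f g) (Mum71.affBase f hV) (Spec.map q) :=
    outer.of_right' (Mum71.isPullback_affBase f hV)
  have hsq : IsPullback (m ≫ q₀) (pullback f g ↘ Spec (CommRingCat.of R)) (X₀ ↘ Spec (CommRingCat.of A₀))
      (Spec.map (CommRingCat.ofHom (algebraMap A₀ R))) := by
    have h := hsq₁.paste_horiz hq₀
    rw [← Spec.map_comp] at h
    exact h
  let e : (Scheme.Modules.pullback (m ≫ q₀)).obj F₀ ≅ (Scheme.Modules.pullback (pullback.fst f g)).obj F :=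
    ((LimTop61.pullbackCompIso q₀ m rfl).app F₀).symm ≪≫ (Scheme.Modules.pullback m).mapIso eF ≪≫
      (LimTop61.pullbackCompIso (f ⁻¹ᵁ V).ι m hm).app F
  obtain ⟨hfwd, hbwd⟩ := hab R (pullback f g) (m ≫ q₀) hsq
  constructor
  · intro h
    exact hfwd (fun x => FlatMor66.isFlatOverAt_of_iso _ e.symm x (h.1 x)) fun n hn p => by
      have h1 := h.2 p n
      rw [hpts R q p n (hN.trans hn), ← hr n (hN.trans hn), Int.cast_natCast] at h1
      exact_mod_cast h1
  · rintro ⟨h1, h2⟩
    obtain ⟨hfib, hflat⟩ := hbwd h1 h2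
    have hall : ∀ (p : PrimeSpectrum R) (n : ℕ), (fibEuler f L F (g p) n : ℚ) = Φ.eval (n : ℚ) := fun p n =>
      congrFun (eq_of_eq_tail N (hpoly R q p) (eval_mem_polySub Φ (le_max_right d _)) fun j hj => by
        show (fibEuler f L F (g p) (N + j) : ℚ) = Φ.eval (((N + j : ℕ)) : ℚ)
        rw [hpts R q p (N + j) (hN.trans (Nat.le_add_right _ _)), ← hr _ (hN.trans (Nat.le_add_right _ _)),
          Int.cast_natCast]
        exact congrArg Nat.cast (hfib (N + j) (Nat.le_add_right _ _) (by omega) p)) fun _ => n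
    refine ⟨fun x => FlatMor66.isFlatOverAt_of_iso _ e x (hflat (fun n hn p => ?_) x), hall⟩
    have h3 := hall p n
    rw [hpts R q p n (hN.trans hn), ← hr n (hN.trans hn), Int.cast_natCast] at h3
    exact_mod_cast h3

/-- The data of the flattening stratum. -/
def flatStrata (hL : RelAmple.IsRelAmple f L) (hF : CohB1.IsFP F) (Φ : Polynomial ℚ) : StrataData S :=
  haveI := hF
  haveI : F.IsQuasicoherent := inferInstance
  { P := fun g => FlatHilb f L F Φ g
    comp := fun h g H => flatHilb_comp f L F h g Φ H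
    loc := fun g H => flatHilb_loc f L F Φ g H
    a := fun V => (exists_spec_ideals f hL hF Φ V.2).choose
    b := fun V => (exists_spec_ideals f hL hF Φ V.2).choose_spec.choose
    fga := fun V => (exists_spec_ideals f hL hF Φ V.2).choose_spec.choose_spec.1
    fgb := fun V => (exists_spec_ideals f hL hF Φ V.2).choose_spec.choose_spec.2.1
    spec := fun V => (exists_spec_ideals f hL hF Φ V.2).choose_spec.choose_spec.2.2 }

theorem carrier_flatStrata (hL : RelAmple.IsRelAmple f L) (hF : CohB1.IsFP F) (Φ : Polynomial ℚ) :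
    (flatStrata f hL hF Φ).carrier = {s : S | ∀ n : ℕ, (fibEuler f L F s n : ℚ) = Φ.eval (n : ℚ)} := by
  ext s
  show FlatHilb f L F Φ (S.fromSpecResidueField s) ↔ _
  have hpt : ∀ t, S.fromSpecResidueField s t = s := fun t => by
    have h : S.fromSpecResidueField s t ∈ Set.range (S.fromSpecResidueField s) := ⟨t, rfl⟩
    rwa [Scheme.range_fromSpecResidueField, Set.mem_singleton_iff] at h
  constructor
  · intro h n
    obtain ⟨t⟩ : Nonempty ↥(Spec (S.residueField s)) := inferInstance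
    have h1 := h.2 t n
    rwa [hpt t] at h1
  · intro h
    refine ⟨?_, fun t n => ?_⟩
    · letI : (pullback f (S.fromSpecResidueField s)).Over (Spec (CommRingCat.of (S.residueField s))) :=
        ⟨pullback.snd f (S.fromSpecResidueField s)⟩
      exact Crv77.isFlatOver_field (S.residueField s) _
    · rw [hpt t]
      exact h n

end Groth.Agent.Hilb75

end
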