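import Groth.Agent.Hilb75.Stratum
import Groth.Agent.Div89.CartierImm

/-! Gluing locally closed strata given by a vanishing and a unit condition on every affine open. -/

set_option autoImplicit false
set_option maxSynthPendingDepth 6
set_option linter.style.haveILetI false
set_option linter.unusedSectionVars false
set_option backward.isDefEq.respectTransparency.types false

universe u

noncomputable section

open CategoryTheory CategoryTheory.Limits AlgebraicGeometry TopologicalSpace Opposite Function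

namespace Groth.Agent.Hilb75

/-- A Zariski local property of morphisms to a scheme, given by a vanishing and a unit condition on affine
opens. -/
structure StrataData (S : Scheme.{u}) where
  /-- The property. -/
  P : ∀ {T : Scheme.{u}}, (T ⟶ S) → Prop
  comp : ∀ {T T' : Scheme.{u}} (h : T' ⟶ T) (g : T ⟶ S), P g → P (h ≫ g)
  loc : ∀ {T : Scheme.{u}} (g : T ⟶ S), (∀ t : T, ∃ O : T.Opens, t ∈ O ∧ P (O.ι ≫ g)) → P g
  /-- The vanishing condition. -/
  a : ∀ V : S.affineOpens, Ideal Γ(S, V.1)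
  /-- The unit condition. -/
  b : ∀ V : S.affineOpens, Ideal Γ(S, V.1)
  fga : ∀ V, (a V).FG
  fgb : ∀ V, (b V).FG
  spec : ∀ (V : S.affineOpens) (R : CommRingCat.{u}) (q : Γ(S, V.1) ⟶ R),
    P (Spec.map q ≫ V.2.fromSpec) ↔ (a V).map q.hom = ⊥ ∧ (b V).map q.hom = ⊤

theorem map_eq_top_iff_field {B : Type u} [CommRing B] {K : Type u} [Field K] (q : B →+* K) (I : Ideal B) :
    I.map q = ⊤ ↔ ¬ I ≤ RingHom.ker q := by
  rw [← Ideal.map_eq_bot_iff_le_ker]
  rcases Ideal.eq_bot_or_top (I.map q) with h | h <;> simp [h]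

namespace StrataData

variable {S : Scheme.{u}} (σ : StrataData S)

/-- The underlying set. -/
def carrier : Set S := {s | σ.P (S.fromSpecResidueField s)}

theorem field_iff (V : S.affineOpens) {y : S} (hy : y ∈ V.1) {K : Type u} [Field K]
    (q : Γ(S, V.1) ⟶ CommRingCat.of K) (hq : RingHom.ker q.hom = (V.2.primeIdealOf ⟨y, hy⟩).asIdeal) :
    σ.P (Spec.map q ≫ V.2.fromSpec) ↔
      σ.a V ≤ (V.2.primeIdealOf ⟨y, hy⟩).asIdeal ∧ ¬ σ.b V ≤ (V.2.primeIdealOf ⟨y, hy⟩).asIdeal := by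
  rw [σ.spec, Ideal.map_eq_bot_iff_le_ker, map_eq_top_iff_field, hq]

theorem fromSpecResidueField_eq {V : S.Opens} (hV : IsAffineOpen V) {y : S} (hy : y ∈ V) :
    Spec.map (S.evaluation V y hy) ≫ hV.fromSpec = S.fromSpecResidueField y := by
  rw [Scheme.fromSpecResidueField, ← hV.fromSpecStalk_eq_fromSpecStalk hy, IsAffineOpen.fromSpecStalk,
    ← Spec.map_comp_assoc]
  rfl

theorem mem_carrier_iff (V : S.affineOpens) {y : S} (hy : y ∈ V.1) :
    y ∈ σ.carrier ↔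
      σ.a V ≤ (V.2.primeIdealOf ⟨y, hy⟩).asIdeal ∧ ¬ σ.b V ≤ (V.2.primeIdealOf ⟨y, hy⟩).asIdeal := by
  rw [← σ.field_iff V hy (K := S.residueField y) (S.evaluation V.1 y hy)
    (FGA29.EulerLC.ker_evaluation' V.2 hy), fromSpecResidueField_eq]
  rfl

theorem range_subset {T : Scheme.{u}} {g : T ⟶ S} (h : σ.P g) (t : T) : g t ∈ σ.carrier := by
  obtain ⟨V, hV, hy, -⟩ := exists_isAffineOpen_mem_and_subset (x := g t) (U := ⊤) trivial
  have h1 := σ.comp (T.fromSpecResidueField t) g h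
  rw [← g.SpecMap_residueFieldMap_fromSpecResidueField, ← fromSpecResidueField_eq hV hy, ← Spec.map_comp_assoc] at h1
  rw [σ.mem_carrier_iff ⟨V, hV⟩ hy, ← σ.field_iff ⟨V, hV⟩ hy (K := T.residueField t)
    (S.evaluation V (g t) hy ≫ g.residueFieldMap t) ?_]
  · exact h1
  · rw [CommRingCat.hom_comp, ← RingHom.comap_ker,
      (RingHom.injective_iff_ker_eq_bot _).1 (RingHom.injective (g.residueFieldMap t).hom)]
    exact FGA29.EulerLC.ker_evaluation' hV hy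

/-- The open in which the stratum is closed. -/
def upper : S.Opens := sSup {O : S.Opens | IsOpen ((O : Set S) \ σ.carrier)}

theorem isOpen_upper_diff : IsOpen ((σ.upper : Set S) \ σ.carrier) := by
  have h : (σ.upper : Set S) \ σ.carrier = ⋃ O ∈ {O : S.Opens | IsOpen ((O : Set S) \ σ.carrier)},
      ((O : Set S) \ σ.carrier) := by
    ext y
    simp only [upper, Opens.coe_sSup, Set.mem_sdiff, Set.mem_iUnion, exists_prop]
    exact ⟨fun ⟨⟨O, hO, hy⟩, h⟩ => ⟨O, hO, hy, h⟩, fun ⟨O, hO, hy, h⟩ => ⟨⟨O, hO, hy⟩, h⟩⟩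
  rw [h]
  exact isOpen_biUnion fun O hO => hO

theorem carrier_subset_upper : σ.carrier ⊆ σ.upper := by
  intro y hy
  obtain ⟨V, hV, hyV, -⟩ := exists_isAffineOpen_mem_and_subset (x := y) (U := ⊤) trivial
  let V' : S.affineOpens := ⟨V, hV⟩
  obtain ⟨β, hβ, hβy⟩ := SetLike.not_le_iff_exists.1 ((σ.mem_carrier_iff V' hyV).1 hy).2
  refine Opens.mem_sSup.2 ⟨S.basicOpen β, ?_, (QC70.mem_basicOpen_iff_primeCompl hV hyV β).2 hβy⟩
  show IsOpen ((S.basicOpen β : Set S) \ σ.carrier)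
  have h : (S.basicOpen β : Set S) \ σ.carrier = (S.basicOpen β : Set S) ∩ ⋃ α ∈ σ.a V', (S.basicOpen α : Set S) := by
    ext z
    simp only [Set.mem_sdiff, SetLike.mem_coe, Set.mem_inter_iff, Set.mem_iUnion, exists_prop]
    refine and_congr_right fun hz => ?_
    have hzV : z ∈ V := S.basicOpen_le β hz
    have hb : ¬ σ.b V' ≤ (hV.primeIdealOf ⟨z, hzV⟩).asIdeal := fun hle =>
      (QC70.mem_basicOpen_iff_primeCompl hV hzV β).1 hz (hle hβ)
    rw [σ.mem_carrier_iff V' hzV, and_iff_left hb, SetLike.not_le_iff_exists]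
    exact exists_congr fun α => and_congr_right fun _ => (QC70.mem_basicOpen_iff_primeCompl hV hzV α).symm
  rw [h]
  exact (S.basicOpen β).2.inter (isOpen_biUnion fun α _ => (S.basicOpen α).2)

theorem isClosed_zl (V : S.affineOpens) (hV : V.1 ≤ σ.upper) :
    IsClosed (PrimeSpectrum.zeroLocus (σ.a V : Set Γ(S, V.1)) \
      PrimeSpectrum.zeroLocus (σ.b V : Set Γ(S, V.1))) := by
  have h : (PrimeSpectrum.zeroLocus (σ.a V : Set Γ(S, V.1)) \ PrimeSpectrum.zeroLocus (σ.b V : Set Γ(S, V.1)))ᶜ =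
      V.2.fromSpec ⁻¹' ((σ.upper : Set S) \ σ.carrier) := by
    ext p
    have hp : V.2.fromSpec p ∈ V.1 := Mum71.mem_of_fromSpec' V.2 p
    show ¬ (p ∈ _ ∧ p ∉ _) ↔ V.2.fromSpec p ∈ (σ.upper : Set S) ∧ V.2.fromSpec p ∉ σ.carrier
    refine Iff.trans ?_ (and_iff_right (hV hp)).symm
    rw [σ.mem_carrier_iff V hp, Mum71.primeIdealOf_fromSpec V.2 p]
    rfl
  rw [← isOpen_compl_iff, h]
  exact σ.isOpen_upper_diff.preimage V.2.fromSpec.continuous

/-- The ideal of the stratum on an affine open of the upper open. -/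
def J (V : S.affineOpens) (hV : V.1 ≤ σ.upper) : Ideal Γ(S, V.1) :=
  (exists_ideal_of_isClosed (σ.a V) (σ.b V) (σ.fga V) (σ.isClosed_zl V hV)).choose

theorem fg_J (V : S.affineOpens) (hV : V.1 ≤ σ.upper) : (σ.J V hV).FG :=
  (exists_ideal_of_isClosed (σ.a V) (σ.b V) (σ.fga V) (σ.isClosed_zl V hV)).choose_spec.1

theorem spec_J (V : S.affineOpens) (hV : V.1 ≤ σ.upper) (R : CommRingCat.{u}) (q : Γ(S, V.1) ⟶ R) :
    σ.P (Spec.map q ≫ V.2.fromSpec) ↔ σ.J V hV ≤ RingHom.ker q.hom := by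
  rw [σ.spec]
  exact ((exists_ideal_of_isClosed (σ.a V) (σ.b V) (σ.fga V) (σ.isClosed_zl V hV)).choose_spec.2 R q.hom).symm

theorem J_map (O O' : S.affineOpens) (h : O'.1 ≤ O.1) (hO : O.1 ≤ σ.upper) :
    (σ.J O hO).map (S.presheaf.map (homOfLE h).op).hom = σ.J O' (h.trans hO) := by
  set ρ := S.presheaf.map (homOfLE h).op with hρ
  have main : ∀ I : Ideal Γ(S, O'.1), ((σ.J O hO).map ρ.hom ≤ I ↔ σ.J O' (h.trans hO) ≤ I) := fun I => by
    let q : Γ(S, O'.1) ⟶ CommRingCat.of (Γ(S, O'.1) ⧸ I) := CommRingCat.ofHom (Ideal.Quotient.mk I)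
    have h1 := σ.spec_J O' (h.trans hO) _ q
    have h2 := σ.spec_J O hO _ (ρ ≫ q)
    rw [Spec.map_comp, Category.assoc, hρ, O.2.map_fromSpec O'.2, h1] at h2
    have hq : RingHom.ker q.hom = I := Ideal.mk_ker
    rw [CommRingCat.hom_comp, ← RingHom.comap_ker, ← Ideal.map_le_iff_le_comap, hq] at h2
    exact h2.symm
  exact le_antisymm ((main _).2 le_rfl) ((main _).1 le_rfl)

theorem piece_iff (V : S.affineOpens) (hV : V.1 ≤ σ.upper) {T : Scheme.{u}} (g : T ⟶ S) {O : T.Opens}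
    (hO : IsAffineOpen O) (e : O ≤ g ⁻¹ᵁ V.1) :
    σ.P (O.ι ≫ g) ↔ σ.J V hV ≤ RingHom.ker (g.appLE V.1 O e).hom := by
  rw [← σ.spec_J V hV Γ(T, O) (g.appLE V.1 O e), IsAffineOpen.SpecMap_appLE_fromSpec]
  constructor
  · intro h
    have := σ.comp hO.isoSpec.inv _ h
    rwa [← Category.assoc, IsAffineOpen.isoSpec_inv_ι] at this
  · intro h
    have := σ.comp hO.isoSpec.hom _ h
    rwa [← Category.assoc, IsAffineOpen.isoSpec_hom_fromSpec] at this

/-- The image of an affine open. -/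
def imageAff (U : σ.upper.toScheme.affineOpens) : S.affineOpens :=
  ⟨σ.upper.ι ''ᵁ U.1, U.2.image_of_isOpenImmersion _⟩

theorem imageAff_le (U : σ.upper.toScheme.affineOpens) : (σ.imageAff U).1 ≤ σ.upper := σ.upper.ι_image_le U.1

/-- The ideal sheaf of the stratum. -/
def idealSheaf : σ.upper.toScheme.IdealSheafData where
  ideal U := σ.J (σ.imageAff U) (σ.imageAff_le U)
  map_ideal_basicOpen U x := σ.J_map (σ.imageAff U) (σ.imageAff (σ.upper.toScheme.affineBasicOpen x))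
    (σ.upper.ι.image_mono (σ.upper.toScheme.basicOpen_le x)) (σ.imageAff_le U)

/-- The immersion of the stratum. -/
def ι : σ.idealSheaf.subscheme ⟶ S := σ.idealSheaf.subschemeι ≫ σ.upper.ι

theorem appLE_upper {U : σ.upper.toScheme.Opens} {T : Scheme.{u}} (g : T ⟶ σ.upper) {O : T.Opens}
    (e₀ : O ≤ g ⁻¹ᵁ U) (e : O ≤ (g ≫ σ.upper.ι) ⁻¹ᵁ (σ.upper.ι ''ᵁ U)) :
    (g ≫ σ.upper.ι).appLE (σ.upper.ι ''ᵁ U) O e = g.appLE U O e₀ := by
  have e₁ : U ≤ σ.upper.ι ⁻¹ᵁ (σ.upper.ι ''ᵁ U) := (σ.upper.ι.preimage_image_eq U).ge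
  have h := Scheme.Hom.appLE_comp_appLE g σ.upper.ι _ U O e₁ e₀
  rw [Scheme.Opens.ι_appLE] at h
  rw [← h]
  refine Eq.trans ?_ (Category.id_comp _)
  congr 1
  exact (congrArg S.presheaf.map (Subsingleton.elim _ _)).trans (S.presheaf.map_id _)

theorem isImmersion_ι : IsImmersion σ.ι := by
  unfold StrataData.ι; infer_instance

theorem lfp_ι : LocallyOfFinitePresentation σ.ι := by
  haveI : LocallyOfFinitePresentation σ.idealSheaf.subschemeι :=
    Div89.lfp_subschemeι _ fun x _ => by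
      obtain ⟨_, ⟨U, hU, rfl⟩, hxU, -⟩ :=
        σ.upper.toScheme.isBasis_affineOpens.exists_subset_of_mem_open (Set.mem_univ x) isOpen_univ
      exact ⟨⟨U, hU⟩, hxU, σ.fg_J (σ.imageAff ⟨U, hU⟩) (σ.imageAff_le _)⟩
  unfold StrataData.ι; infer_instance

theorem P_ι : σ.P σ.ι := by
  refine σ.loc _ fun t => ?_
  let j := σ.idealSheaf.subschemeι
  obtain ⟨_, ⟨U, hU, rfl⟩, hxU, -⟩ :=
    σ.upper.toScheme.isBasis_affineOpens.exists_subset_of_mem_open (Set.mem_univ (j t)) isOpen_univ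
  obtain ⟨_, ⟨O, hO, rfl⟩, htO, e₀⟩ := σ.idealSheaf.subscheme.isBasis_affineOpens.exists_subset_of_mem_open
    (show t ∈ j ⁻¹ᵁ U from hxU) (j ⁻¹ᵁ U).2
  refine ⟨O, htO, ?_⟩
  have e : O ≤ σ.ι ⁻¹ᵁ (σ.imageAff ⟨U, hU⟩).1 := fun z hz => ⟨j z, e₀ hz, rfl⟩
  refine (σ.piece_iff (σ.imageAff ⟨U, hU⟩) (σ.imageAff_le _) σ.ι hO e).2 fun x hx => ?_
  have h0 : (j.app U).hom x = 0 :=
    j.ideal_ker_le ⟨U, hU⟩ ((Scheme.IdealSheafData.ker_subschemeι σ.idealSheaf).ge ⟨U, hU⟩ hx)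
  rw [RingHom.mem_ker]
  refine (congrArg (fun φ => φ.hom x) (σ.appLE_upper j e₀ e)).trans ?_
  exact (congrArg (σ.idealSheaf.subscheme.presheaf.map (homOfLE e₀).op).hom h0).trans (map_zero _)

theorem factors_iff {T : Scheme.{u}} (g : T ⟶ S) :
    (∃ h : T ⟶ σ.idealSheaf.subscheme, h ≫ σ.ι = g) ↔ σ.P g := by
  refine ⟨fun ⟨h, hh⟩ => hh ▸ σ.comp h _ σ.P_ι, fun hP => ?_⟩
  have hW : Set.range g ⊆ Set.range σ.upper.ι := by
    rw [Scheme.Opens.range_ι]
    rintro _ ⟨t, rfl⟩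
    exact σ.carrier_subset_upper (σ.range_subset hP t)
  let u₀ := IsOpenImmersion.lift σ.upper.ι g hW
  have hu₀ : u₀ ≫ σ.upper.ι = g := IsOpenImmersion.lift_fac _ _ _
  have hker : σ.idealSheaf ≤ u₀.ker := by
    refine Scheme.IdealSheafData.le_ofIdeals_iff.2 fun U x hx => ?_
    show (u₀.app U.1).hom x = 0
    apply T.IsSheaf.section_ext
    intro t ht
    obtain ⟨_, ⟨O, hO, rfl⟩, htO, e₀⟩ :=
      T.isBasis_affineOpens.exists_subset_of_mem_open (show t ∈ u₀ ⁻¹ᵁ U.1 from ht) (u₀ ⁻¹ᵁ U.1).2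
    refine ⟨O, e₀, htO, ?_⟩
    rw [map_zero]
    have e : O ≤ (u₀ ≫ σ.upper.ι) ⁻¹ᵁ (σ.imageAff U).1 := fun z hz => ⟨u₀ z, e₀ hz, rfl⟩
    have h0 := (σ.piece_iff (σ.imageAff U) (σ.imageAff_le U) _ hO e).1 (σ.comp (show T.Opens from O).ι _ (hu₀ ▸ hP)) hx
    rw [RingHom.mem_ker] at h0
    exact (congrArg (fun φ => φ.hom x) (σ.appLE_upper u₀ e₀ e)).symm.trans h0
  refine ⟨IsClosedImmersion.lift σ.idealSheaf.subschemeι u₀
    ((Scheme.IdealSheafData.ker_subschemeι σ.idealSheaf).le.trans hker), ?_⟩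
  exact (Category.assoc _ _ _).symm.trans ((congrArg (· ≫ _) (IsClosedImmersion.lift_fac _ _ _)).trans hu₀)

theorem range_ι : Set.range σ.ι = σ.carrier := by
  ext s
  constructor
  · rintro ⟨z, rfl⟩
    exact σ.range_subset σ.P_ι z
  · intro hs
    obtain ⟨h, hh⟩ := (σ.factors_iff (S.fromSpecResidueField s)).2 hs
    let pt : Spec (S.residueField s) := Classical.arbitrary _
    have hpt : S.fromSpecResidueField s pt = s := by
      have : S.fromSpecResidueField s pt ∈ Set.range (S.fromSpecResidueField s) := ⟨pt, rfl⟩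
      rwa [Scheme.range_fromSpecResidueField, Set.mem_singleton_iff] at this
    refine ⟨h pt, ?_⟩
    rw [← Scheme.Hom.comp_apply, hh]
    exact hpt

theorem quasiCompact_ι : QuasiCompact σ.ι := by
  haveI := σ.isImmersion_ι
  refine quasiCompact_iff_forall_isAffineOpen.2 fun V hV => ?_
  let V' : S.affineOpens := ⟨V, hV⟩
  refine σ.ι.isEmbedding.isInducing.isCompact_iff.2 ?_
  show IsCompact (σ.ι '' (σ.ι ⁻¹' (V : Set S)))
  obtain ⟨gs, hgs⟩ := σ.fgb V'
  have key : (V : Set S) ∩ σ.carrier =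
      hV.fromSpec '' (PrimeSpectrum.zeroLocus (σ.a V' : Set Γ(S, V)) ∩
        ⋃ β ∈ gs, (PrimeSpectrum.basicOpen β : Set (PrimeSpectrum Γ(S, V)))) := by
    have hnot : ∀ p : PrimeSpectrum Γ(S, V), ¬ σ.b V' ≤ p.asIdeal ↔ ∃ β ∈ gs, β ∉ p.asIdeal := fun p => by
      rw [← hgs, Submodule.span_le, Set.not_subset]
      rfl
    ext y
    constructor
    · rintro ⟨hy, hyc⟩
      refine ⟨hV.primeIdealOf ⟨y, hy⟩, ?_, hV.fromSpec_primeIdealOf ⟨y, hy⟩⟩
      obtain ⟨h1, h2⟩ := (σ.mem_carrier_iff V' hy).1 hyc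
      obtain ⟨β, hβ, hβy⟩ := (hnot _).1 h2
      exact ⟨h1, Set.mem_biUnion hβ hβy⟩
    · rintro ⟨p, ⟨hp1, hp2⟩, rfl⟩
      have hp : hV.fromSpec p ∈ V := Mum71.mem_of_fromSpec' hV p
      refine ⟨hp, (σ.mem_carrier_iff V' hp).2 ?_⟩
      rw [Mum71.primeIdealOf_fromSpec hV p]
      obtain ⟨β, hβ, hβp⟩ := Set.mem_iUnion₂.1 hp2
      exact ⟨hp1, (hnot p).2 ⟨β, hβ, hβp⟩⟩
  rw [Set.image_preimage_eq_inter_range, σ.range_ι, key]
  exact ((gs.finite_toSet.isCompact_biUnion fun β _ => PrimeSpectrum.isCompact_basicOpen β).inter_left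
    (PrimeSpectrum.isClosed_zeroLocus _)).image hV.fromSpec.continuous

theorem exists_representing : ∃ (W : Scheme.{u}) (i : W ⟶ S), IsImmersion i ∧ QuasiCompact i ∧
    LocallyOfFinitePresentation i ∧ Set.range i = σ.carrier ∧
      ∀ (T : Scheme.{u}) (g : T ⟶ S), (∃ h : T ⟶ W, h ≫ i = g) ↔ σ.P g :=
  ⟨_, σ.ι, σ.isImmersion_ι, σ.quasiCompact_ι, σ.lfp_ι, σ.range_ι, fun _ g => σ.factors_iff g⟩

end StrataData

end Groth.Agent.Hilb75

end
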