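import Groth.Agent.Hilb75.FlatPoly
import Groth.Agent.Hilb37.HilbStratum

/-! The ideals cutting out a flattening stratum over a Noetherian affine base. -/

set_option autoImplicit false
set_option maxSynthPendingDepth 6
set_option synthInstance.maxHeartbeats 200000
set_option linter.style.haveILetI false
set_option backward.isDefEq.respectTransparency.types false

universe u

noncomputable section

open CategoryTheory CategoryTheory.Limits AlgebraicGeometry TopologicalSpace Opposite TensorProduct Function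

namespace Groth.Agent.Hilb75

open Mum71 Coh69 CechComp71 FF71

/-- An ideal cutting out the same as a pair of a vanishing and a unit condition whose common set is closed. -/
theorem exists_ideal_of_isClosed {B : Type u} [CommRing B] (a b : Ideal B) (ha : a.FG)
    (hcl : IsClosed (PrimeSpectrum.zeroLocus (a : Set B) \ PrimeSpectrum.zeroLocus (b : Set B))) :
    ∃ J : Ideal B, J.FG ∧ ∀ (R : Type u) [CommRing R] (q : B →+* R),
      J ≤ RingHom.ker q ↔ a.map q = ⊥ ∧ b.map q = ⊤ := by
  let π := Ideal.Quotient.mk a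
  let Z : Set (PrimeSpectrum (B ⧸ a)) := (PrimeSpectrum.comap π) ⁻¹'
    (PrimeSpectrum.zeroLocus (a : Set B) \ PrimeSpectrum.zeroLocus (b : Set B))
  have hza : ∀ x : PrimeSpectrum (B ⧸ a), PrimeSpectrum.comap π x ∈ PrimeSpectrum.zeroLocus (a : Set B) :=
    fun x z hz => by
      show π z ∈ x.asIdeal
      rw [Ideal.Quotient.eq_zero_iff_mem.2 hz]
      exact zero_mem _
  have hZ : IsClopen Z := by
    refine ⟨hcl.preimage (PrimeSpectrum.continuous_comap π), ?_⟩
    have h : Z = (PrimeSpectrum.comap π) ⁻¹' (PrimeSpectrum.zeroLocus (b : Set B))ᶜ :=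
      Set.ext fun x => ⟨fun h => h.2, fun h => ⟨hza x, h⟩⟩
    rw [h]
    exact (PrimeSpectrum.isClosed_zeroLocus _).isOpen_compl.preimage (PrimeSpectrum.continuous_comap π)
  obtain ⟨e, he, hZe⟩ := PrimeSpectrum.exists_idempotent_basicOpen_eq_of_isClopen hZ
  obtain ⟨ε, rfl⟩ := Ideal.Quotient.mk_surjective e
  refine ⟨a ⊔ Ideal.span {1 - ε}, Submodule.FG.sup ha (Submodule.fg_span_singleton _), fun R _ q => ?_⟩
  rw [sup_le_iff, Ideal.span_singleton_le_iff_mem, RingHom.mem_ker, map_sub, map_one, sub_eq_zero,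
    Ideal.map_eq_bot_iff_le_ker]
  refine and_congr_right fun hqa => ?_
  let qb : B ⧸ a →+* R := Ideal.Quotient.lift a q fun x hx => hqa hx
  have hqb : qb.comp π = q := Ideal.Quotient.lift_comp_mk a q _
  have key : ∀ Q : PrimeSpectrum R, ¬ b ≤ Q.asIdeal.comap q ↔ q ε ∉ Q.asIdeal := fun Q => by
    have h2 : PrimeSpectrum.comap qb Q ∈ Z ↔
        PrimeSpectrum.comap qb Q ∈ (PrimeSpectrum.basicOpen (π ε) : Set (PrimeSpectrum (B ⧸ a))) := by rw [hZe]
    have h3 : PrimeSpectrum.comap π (PrimeSpectrum.comap qb Q) = PrimeSpectrum.comap q Q := by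
      rw [← hqb]
      rfl
    refine Iff.trans (Iff.trans ?_ h2) ?_
    · refine ⟨fun h => ⟨hza _, fun h' => h ?_⟩, fun h h' => h.2 ?_⟩
      · rw [h3] at h'
        exact h'
      · rw [h3]
        exact h'
    · rw [SetLike.mem_coe, PrimeSpectrum.mem_basicOpen]
      rfl
  constructor
  · intro h1
    by_contra hne
    obtain ⟨Q, hQ, hle⟩ := Ideal.exists_le_maximal _ hne
    refine (key ⟨Q, hQ.isPrime⟩).2 ?_ (Ideal.map_le_iff_le_comap.1 hle)
    rw [← h1]
    exact fun h => hQ.ne_top ((Ideal.eq_top_iff_one _).2 h)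
  · intro hb
    have hu : IsUnit (q ε) := by
      by_contra hne
      obtain ⟨Q, hQ, hle⟩ := exists_max_ideal_of_mem_nonunits hne
      refine (key ⟨Q, hQ.isPrime⟩).1 (fun h => hQ.ne_top (top_le_iff.1 ?_)) hle
      rw [← hb]
      exact Ideal.map_le_iff_le_comap.2 h
    have h1 : q ε * q ε = q ε * 1 := by
      rw [mul_one, ← hqb, RingHom.comp_apply, ← map_mul, he.eq]
    exact (hu.mul_left_cancel h1).symm

variable {A : Type u} [CommRing A] [IsNoetherianRing A] {X : Scheme.{u}} [X.Over (Spec (CommRingCat.of A))]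
  [IsProper (X ↘ Spec (CommRingCat.of A))] {ι : Type u} [Finite ι] {U : ι → X.Opens} {F L : X.Modules}
  (hUL : GoodCover U L) (hF : Coh.IsCoh F) (hL : CohB1.IsAmple L)

include hUL hF hL in
/-- The ideals of the stratum with prescribed values of the Hilbert function on large twists. -/
theorem exists_stratum_ideals (r : ℕ → ℕ) (N₀ D : ℕ) :
    ∃ (N : ℕ) (a b : Ideal A), N₀ ≤ N ∧ a.FG ∧ b.FG ∧
      ∀ (B : Type u) [CommRing B] [Algebra A B] (X' : Scheme.{u}) [X'.Over (Spec (CommRingCat.of B))] (g : X' ⟶ X),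
        IsPullback g (X' ↘ Spec (CommRingCat.of B)) (X ↘ Spec (CommRingCat.of A))
          (Spec.map (CommRingCat.ofHom (algebraMap A B))) →
        (FlatMod.IsFlatOver (X' ↘ Spec (CommRingCat.of B)) ((Scheme.Modules.pullback g).obj F) →
          (∀ n, N ≤ n → ∀ p : PrimeSpectrum B, FCx40.fib (LinearMap.ker (cdL A U (tw F L n) 0))
            (PrimeSpectrum.comap (algebraMap A B) p) = r n) →
          a.map (algebraMap A B) = ⊥ ∧ b.map (algebraMap A B) = ⊤) ∧
        (a.map (algebraMap A B) = ⊥ → b.map (algebraMap A B) = ⊤ →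
          (∀ n, N ≤ n → n ≤ N + D → ∀ p : PrimeSpectrum B, FCx40.fib (LinearMap.ker (cdL A U (tw F L n) 0))
            (PrimeSpectrum.comap (algebraMap A B) p) = r n) ∧
          ((∀ n, N ≤ n → ∀ p : PrimeSpectrum B, FCx40.fib (LinearMap.ker (cdL A U (tw F L n) 0))
            (PrimeSpectrum.comap (algebraMap A B) p) = r n) →
            FlatMod.IsFlatOver (X' ↘ Spec (CommRingCat.of B)) ((Scheme.Modules.pullback g).obj F))) := by
  classical
  haveI : X.IsSeparated :=
    ⟨by rw [← terminal.comp_from (X ↘ Spec (CommRingCat.of A))]; infer_instance⟩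
  haveI := hF.1
  haveI : CompactSpace X := hL.2.1
  obtain ⟨N₁, hN₁⟩ := exists_flat_cycles (A := A) hUL hF hL
  let N := max N₀ N₁
  let M := fun n => LinearMap.ker (cdL A U (tw F L n) 0)
  have hfin : ∀ n, N ≤ n → Module.Finite A (M n) := fun n hn => (hN₁ n ((le_max_right _ _).trans hn)).1
  let a : Ideal A := ⨆ n : {n : ℕ // N ≤ n}, ⨆ k : {k : ℕ // k < r n.1}, Fitt.ideal A (M n.1) k.1
  let b : Ideal A := ∏ j ∈ Finset.range (D + 1), Fitt.ideal A (M (N + j)) (r (N + j))
  refine ⟨N, a, b, le_max_left _ _, IsNoetherian.noetherian a, IsNoetherian.noetherian b,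
    fun B _ _ X' _ g hsq => ?_⟩
  have hmapa : a.map (algebraMap A B) = ⊥ ↔
      ∀ n, N ≤ n → ∀ k, k < r n → (Fitt.ideal A (M n) k).map (algebraMap A B) = ⊥ := by
    simp only [a, Ideal.map_iSup, iSup_eq_bot]
    exact ⟨fun h n hn k hk => h ⟨n, hn⟩ ⟨k, hk⟩, fun h n k => h n.1 n.2 k.1 k.2⟩
  have hmapb : b.map (algebraMap A B) = ⊤ ↔
      ∀ j, j ≤ D → (Fitt.ideal A (M (N + j)) (r (N + j))).map (algebraMap A B) = ⊤ := by
    show Ideal.map (algebraMap A B) (∏ j ∈ Finset.range (D + 1), Fitt.ideal A (M (N + j)) (r (N + j))) = ⊤ ↔ _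
    rw [← Ideal.mapHom_apply, map_prod]
    constructor
    · intro h j hj
      exact top_le_iff.1 (h.ge.trans (Ideal.le_of_dvd (Finset.dvd_prod_of_mem _ (Finset.mem_range.2 (by omega)))))
    · intro h
      rw [← Ideal.one_eq_top]
      exact Finset.prod_eq_one fun j hj => by
        rw [Ideal.one_eq_top]
        exact h j (Nat.lt_succ_iff.1 (Finset.mem_range.1 hj))
  have hrank : ∀ n, N ≤ n → ∀ p : PrimeSpectrum B,
      Module.finrank p.asIdeal.ResidueField (p.asIdeal.ResidueField ⊗[B] (B ⊗[A] M n)) =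
        FCx40.fib (M n) (PrimeSpectrum.comap (algebraMap A B) p) := fun n hn p => by
    haveI := hfin n hn
    rw [(AlgebraTensorModule.cancelBaseChange A B p.asIdeal.ResidueField p.asIdeal.ResidueField (M n)).finrank_eq]
    exact FGA29.EulerLC.finrank_tensor_eq_fib p.asIdeal.ResidueField (M n) _ (by
      rw [PrimeSpectrum.comap_asIdeal, IsScalarTower.algebraMap_eq A B p.asIdeal.ResidueField,
        ← RingHom.comap_ker, Ideal.ker_algebraMap_residueField])
  constructor
  · intro hfl hpts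
    have hft := flatTerms_of_isFlatOver hUL.affine B hsq hfl
    have key : ∀ n, N ≤ n → (∀ k, k < r n → (Fitt.ideal A (M n) k).map (algebraMap A B) = ⊥) ∧
        ∀ k, r n ≤ k → (Fitt.ideal A (M n) k).map (algebraMap A B) = ⊤ := fun n hn => by
      haveI := hfin n hn
      haveI := ((hN₁ n ((le_max_right _ _).trans hn)).2.2 B hft).1
      obtain ⟨h1, h2⟩ := Hilb37.Stratum.fitting_of_projective (B := B) (M := B ⊗[A] M n) (r := r n) fun p => by
        rw [Module.rankAtStalk_eq, hrank n hn p, hpts n hn p]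
      exact ⟨fun k hk => by rw [← Fit14.ideal_baseChange]; exact h1 k hk,
        fun k hk => by rw [← Fit14.ideal_baseChange]; exact h2 k hk⟩
    exact ⟨hmapa.2 fun n hn => (key n hn).1, hmapb.2 fun j _ => (key (N + j) (Nat.le_add_right _ _)).2 _ le_rfl⟩
  · intro ha hb
    rw [hmapa] at ha
    rw [hmapb] at hb
    refine ⟨fun n hn hn' p => ?_, fun hpts => ?_⟩
    · obtain ⟨j, rfl⟩ := Nat.exists_eq_add_of_le hn
      haveI := hfin _ hn
      rw [← hrank _ hn p]
      refine le_antisymm ((Fit14.not_le_iff_finrank_le p.asIdeal (r (N + j))).1 ?_) ?_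
      · rw [Fit14.ideal_baseChange, hb j (by omega)]
        exact fun h => p.isPrime.ne_top (top_le_iff.1 h)
      · by_contra hlt
        push Not at hlt
        refine (Fit14.not_le_iff_finrank_le p.asIdeal (r (N + j) - 1)).2 (Nat.le_sub_one_of_lt hlt) ?_
        rw [Fit14.ideal_baseChange, ha _ hn _ (by omega)]
        exact bot_le
    · refine isFlatOver_of_flat_tensor hsq hL F N fun n hn => ?_
      haveI := hfin n hn
      have h2 : ∀ k, r n ≤ k → Fitt.ideal B (B ⊗[A] M n) k = ⊤ := fun k hk => by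
        refine top_le_iff.1 (le_trans ?_ (Fit14.ideal_mono hk))
        by_contra hne
        obtain ⟨Q, hQ, hle⟩ := Ideal.exists_le_maximal _ (fun h => hne h.ge)
        refine (Fit14.not_le_iff_finrank_le Q (r n)).2 (le_of_eq ?_) hle
        exact (hrank n hn ⟨Q, hQ.isPrime⟩).trans (hpts n hn _)
      obtain ⟨hproj, -⟩ := Hilb37.Stratum.projective_of_fitting (B := B) (M := B ⊗[A] M n) (r := r n)
        (fun k hk => by rw [Fit14.ideal_baseChange]; exact ha n hn k hk) h2
      obtain ⟨e, -⟩ := exists_topKer A hUL.top (tw F L n)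
      haveI := hproj
      exact Module.Flat.of_linearEquiv (LinearEquiv.baseChange A B _ _ e)

end Groth.Agent.Hilb75

end
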