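import Groth.Agent.Hilb75.Cech
import Groth.Agent.RB70.AmpleVanish
import Groth.Agent.Amp73.QA
import Groth.Agent.Amp73.Powers
import Groth.Agent.Flat75.Const
import Groth.Agent.Crv77.TwistSection
import Groth.Agent.QC70.CohOps
import Groth.Agent.S9514

/-! The Čech sequences of the twists of a coherent module by an ample module. -/

set_option autoImplicit false
set_option maxSynthPendingDepth 6
set_option synthInstance.maxHeartbeats 200000
set_option linter.style.haveILetI false
set_option backward.isDefEq.respectTransparency.types false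

universe u

noncomputable section

open CategoryTheory CategoryTheory.Limits AlgebraicGeometry TopologicalSpace Opposite TensorProduct Function
open Groth.Agent.Var76.LineBundle

namespace Groth.Agent.Hilb75

open Mum71 Coh69 CechComp71 FF71

variable {A : Type u} [CommRing A] {X : Scheme.{u}} [X.Over (Spec (CommRingCat.of A))]

/-- The twists. -/
abbrev tw (F L : X.Modules) (n : ℕ) : X.Modules := CohB1.tensorMod F (CohB1.tensorPow L n)

theorem isCoh_tw [IsLocallyNoetherian X] {F L : X.Modules} (hF : Coh.IsCoh F) (hL : PicF.IsInvertible L) (n : ℕ) :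
    Coh.IsCoh (tw F L n) :=
  Amp73.isCoh_tensorMod hF (Amp73.isCoh_of_isInvertible (EGA73.isInvertible_tensorPow hL n))

section Frame

variable (F : X.Modules) {N : X.Modules} {W : X.Opens} {e : Γ(N, W)} (he : IsFrame N W e)

variable (A) in
include he in
/-- On a framed open a twist is the module, linearly over the base. -/
theorem exists_frame_equiv {V : X.Opens} (h : V ≤ W) :
    ∃ φ : Γ(F, V) ≃ₗ[A] Γ(CohB1.tensorMod F N, V), ∀ m, φ m = Amp73.tm F N m (res N h e) := by
  let φ : Γ(F, V) →ₗ[A] Γ(CohB1.tensorMod F N, V) :=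
    { toFun := fun m => Amp73.tm F N m (res N h e)
      map_add' := fun a b => Amp73.tm_add_left a b _
      map_smul' := fun a m => by
        rw [RingHom.id_apply, modSec_smul, modSec_smul, Amp73.tm_smul_left] }
  refine ⟨LinearEquiv.ofBijective φ ⟨fun m m' hm => Amp73.tm_frame_injective he h m m' hm, fun z => ?_⟩,
    fun m => rfl⟩
  obtain ⟨m, hm⟩ := Amp73.exists_eq_tm_frame he h z
  exact ⟨m, hm⟩

end Frame

variable {ι : Type u} {U : ι → X.Opens}

/-- Frames on the members of a cover. -/
def Framed (U : ι → X.Opens) (L : X.Modules) : Prop :=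
  ∀ i, ∃ e : Γ(L, U i), IsFrame L (U i) e

theorem cOpen_le_first {p : ℕ} (k : Fin (p + 1) → ι) : cOpen U k ≤ U (k 0) := cOpen_le U k 0

theorem flat_twist_terms [Finite ι] {F L : X.Modules} (hfr : Framed U L) (n : ℕ)
    (B : Type u) [CommRing B] [Algebra A B] (p : ℕ)
    (hflat : ∀ k : Fin (p + 1) → ι, Module.Flat B (B ⊗[A] Γ(F, cOpen U k))) :
    Module.Flat B (B ⊗[A] Ch U (tw F L n) p) := by
  classical
  letI := Fintype.ofFinite (Fin (p + 1) → ι)
  haveI : ∀ k : Fin (p + 1) → ι, Module.Flat B (B ⊗[A] Γ(tw F L n, cOpen U k)) := fun k => by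
    obtain ⟨e, he⟩ := hfr (k 0)
    obtain ⟨φ, -⟩ := exists_frame_equiv A F (Amp73.isFrame_epow he n) (cOpen_le_first k)
    haveI := hflat k
    exact Module.Flat.of_linearEquiv (LinearEquiv.baseChange A B _ _ φ).symm
  haveI : Module.Flat B (∀ k : Fin (p + 1) → ι, B ⊗[A] Γ(tw F L n, cOpen U k)) :=
    Module.Flat.of_linearEquiv (DirectSum.linearEquivFunOnFintype B (Fin (p + 1) → ι)
      (fun k => B ⊗[A] Γ(tw F L n, cOpen U k))).symm
  exact Module.Flat.of_linearEquiv (TensorProduct.piRight A B B (fun k => Γ(tw F L n, cOpen U k)))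

section BaseChange

variable {B : Type u} [CommRing B] [Algebra A B] {X' : Scheme.{u}} [X'.Over (Spec (CommRingCat.of B))]
  {g : X' ⟶ X}
  (hsq : IsPullback g (X' ↘ Spec (CommRingCat.of B)) (X ↘ Spec (CommRingCat.of A))
    (Spec.map (CommRingCat.ofHom (algebraMap A B))))

/-- The pullback of a twist is a twist. -/
def twPullIso (g : X' ⟶ X) (F : X.Modules) {L : X.Modules} (hL : PicF.IsInvertible L) (n : ℕ) :
    (Scheme.Modules.pullback g).obj (tw F L n) ≅
      tw ((Scheme.Modules.pullback g).obj F) ((Scheme.Modules.pullback g).obj L) n :=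
  Desc59.AmpleDesc.pullTensIso g F (CohB1.tensorPow L n) ≪≫ EGA73.tensIso (Iso.refl _) (Amp73.pullPowIso g hL n)

include hsq in
theorem isAmple_of_sq {L : X.Modules} (hL : CohB1.IsAmple L) :
    CohB1.IsAmple ((Scheme.Modules.pullback g).obj L) :=
  haveI := isAffineHom_of_sq hsq
  Amp73.isAmple_pullback g (Amp73.isQuasiAffine_of_isAffineHom g) hL

include hsq in
theorem isProper_of_sq [IsProper (X ↘ Spec (CommRingCat.of A))] : IsProper (X' ↘ Spec (CommRingCat.of B)) :=
  MorphismProperty.of_isPullback hsq (inferInstance : IsProper (X ↘ Spec (CommRingCat.of A)))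

include hsq in
/-- Serre vanishing after a base change. -/
theorem exists_vanish_sq [IsNoetherianRing B] [IsProper (X ↘ Spec (CommRingCat.of A))] {F L : X.Modules}
    [F.IsQuasicoherent] [F.IsFiniteType] (hL : CohB1.IsAmple L) :
    ∃ N : ℕ, ∀ n, N ≤ n → ∀ p : ℕ, 1 ≤ p →
      Subsingleton (Coh.HH X' ((Scheme.Modules.pullback g).obj (tw F L n)) p) := by
  haveI := isProper_of_sq hsq
  haveI : IsLocallyNoetherian X' := LocallyOfFiniteType.isLocallyNoetherian (X' ↘ Spec (CommRingCat.of B))
  obtain ⟨N, hN⟩ := RB70.exists_vanishing_ample (X' ↘ Spec (CommRingCat.of B)) (isAmple_of_sq hsq hL)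
    ((Scheme.Modules.pullback g).obj F) ⟨QCPull72.isQuasicoherent_pullback g F, QCPull72.isFiniteType_pullback g F⟩
  exact ⟨N, fun n hn p hp => ValVan29.subsingleton_hh_of_iso (twPullIso g F hL.1 n).symm p (hN n hn p hp)⟩

end BaseChange

section Relations

variable {F : X.Modules} {m : ℕ} (a : Fin m → A)

/-- The sum of multiplications. -/
def sumMul (F : X.Modules) : (⨁ fun _ : Fin m => F) ⟶ F := biproduct.desc fun j => Formal.smulMod A F (a j)

/-- The module of relations. -/
abbrev relMod (F : X.Modules) : X.Modules := kernel (sumMul a F)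

/-- Its components. -/
def relπ (F : X.Modules) (j : Fin m) : relMod a F ⟶ F := kernel.ι (sumMul a F) ≫ biproduct.π _ j

theorem app_sum {M N : X.Modules} {κ : Type*} (s : Finset κ) (φ : κ → (M ⟶ N)) (V : X.Opens) (x : Γ(M, V)) :
    (∑ k ∈ s, φ k).app V x = ∑ k ∈ s, (φ k).app V x :=
  map_sum (AddMonoidHom.mk' (fun ψ : M ⟶ N => ψ.app V x) fun _ _ => rfl) φ s

theorem biproduct_sections_eq (V : X.Opens) (x : Γ(⨁ fun _ : Fin m => F, V)) :
    x = ∑ j, (biproduct.ι (fun _ : Fin m => F) j).app V ((biproduct.π (fun _ : Fin m => F) j).app V x) := by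
  have h := congr(($(biproduct.total (f := fun _ : Fin m => F))).app V x)
  rw [app_sum] at h
  exact h.symm

theorem sumMul_app (V : X.Opens) (x : Γ(⨁ fun _ : Fin m => F, V)) :
    (sumMul a F).app V x = ∑ j, a j • (biproduct.π (fun _ : Fin m => F) j).app V x := by
  conv_lhs => rw [biproduct_sections_eq V x]
  rw [map_sum]
  refine Finset.sum_congr rfl fun j _ => ?_
  show ((biproduct.ι (fun _ : Fin m => F) j) ≫ sumMul a F).app V _ = _
  rw [sumMul, biproduct.ι_desc]
  rfl

theorem relπ_injective (V : X.Opens) (k k' : Γ(relMod a F, V))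
    (h : ∀ j, (relπ a F j).app V k = (relπ a F j).app V k') : k = k' := by
  refine QC70.app_injective_of_mono (kernel.ι (sumMul a F)) V ?_
  rw [biproduct_sections_eq V ((kernel.ι (sumMul a F)).app V k),
    biproduct_sections_eq V ((kernel.ι (sumMul a F)).app V k')]
  exact Finset.sum_congr rfl fun j _ => congrArg _ (h j)

theorem sum_relπ (V : X.Opens) (k : Γ(relMod a F, V)) : ∑ j, a j • (relπ a F j).app V k = 0 := by
  refine (sumMul_app a V ((kernel.ι (sumMul a F)).app V k)).symm.trans ?_
  exact congr(($(kernel.condition (sumMul a F))).app V k)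

theorem exists_relπ (V : X.Opens) (v : Fin m → Γ(F, V)) (hv : ∑ j, a j • v j = 0) :
    ∃ k, ∀ j, (relπ a F j).app V k = v j := by
  classical
  let x : Γ(⨁ fun _ : Fin m => F, V) := ∑ j, (biproduct.ι (fun _ : Fin m => F) j).app V (v j)
  have hx : ∀ l, (biproduct.π (fun _ : Fin m => F) l).app V x = v l := fun l => by
    rw [map_sum, Finset.sum_eq_single l]
    · exact congr(($(biproduct.ι_π_self (fun _ : Fin m => F) l)).app V (v l))
    · intro j _ hj
      exact congr(($(biproduct.ι_π_ne (fun _ : Fin m => F) hj)).app V (v j))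
    · simp
  obtain ⟨k, hk⟩ := QC70.exists_kernel_app_eq (sumMul a F) V x (by simp only [sumMul_app, hx, hv])
  exact ⟨k, fun j => (congrArg ((biproduct.π (fun _ : Fin m => F) j).app V) hk).trans (hx j)⟩

variable (L : X.Modules) (n : ℕ)

theorem isCoh_relMod [IsLocallyNoetherian X] (hF : Coh.IsCoh F) : Coh.IsCoh (relMod a F) :=
  (S9514.result X (QC70.isCoh_biproduct _ fun _ => hF) hF (sumMul a F)).1

/-- The components on cochains of the twists. -/
def relCh (p : ℕ) : Ch U (tw (relMod a F) L n) p →ₗ[A] Fin m → Ch U (tw F L n) p where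
  toFun k j i := (Crv77.twistMap (relπ a F j) (CohB1.tensorPow L n)).app (cOpen U i) (k i)
  map_add' k k' := funext fun j => funext fun i => map_add _ _ _
  map_smul' c k := funext fun j => funext fun i => by
    simp only [RingHom.id_apply, Pi.smul_apply, modSec_smul]
    exact Scheme.Modules.Hom.app_smul _ _ _

theorem relCh_cdL (p : ℕ) (k : Ch U (tw (relMod a F) L n) p) (j : Fin m) :
    relCh a L n (p + 1) (cdL A U (tw (relMod a F) L n) p k) j = cdL A U (tw F L n) p (relCh a L n p k j) := by
  funext i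
  show (Crv77.twistMap (relπ a F j) (CohB1.tensorPow L n)).app (cOpen U i) _ = _
  rw [cdL_apply, cdL_apply, map_sum]
  refine Finset.sum_congr rfl fun l _ => ?_
  rw [map_zsmul]
  congr 1
  exact QC70.app_res _ _ _

variable {L} (hfr : Framed U L)

include hfr in
theorem relCh_spec (p : ℕ) :
    Injective (relCh (U := U) (F := F) a L n p) ∧ (∀ k, ∑ j, a j • relCh (U := U) (F := F) a L n p k j = 0) ∧
      ∀ w : Fin m → Ch U (tw F L n) p, ∑ j, a j • w j = 0 → w ∈ LinearMap.range (relCh (U := U) (F := F) a L n p) := by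
  have key : ∀ i : Fin (p + 1) → ι, ∃ (φ : Γ(F, cOpen U i) ≃ₗ[A] Γ(tw F L n, cOpen U i))
      (ψ : Γ(relMod a F, cOpen U i) ≃ₗ[A] Γ(tw (relMod a F) L n, cOpen U i)),
      ∀ j k, (Crv77.twistMap (relπ a F j) (CohB1.tensorPow L n)).app (cOpen U i) (ψ k) =
        φ ((relπ a F j).app (cOpen U i) k) := fun i => by
    obtain ⟨e, he⟩ := hfr (i 0)
    obtain ⟨φ, hφ⟩ := exists_frame_equiv A F (Amp73.isFrame_epow he n) (cOpen_le_first i)
    obtain ⟨ψ, hψ⟩ := exists_frame_equiv A (relMod a F) (Amp73.isFrame_epow he n) (cOpen_le_first i)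
    exact ⟨φ, ψ, fun j k => by rw [hψ, hφ, Crv77.twist_map_tm]⟩
  choose φ ψ hφψ using key
  refine ⟨fun k k' h => funext fun i => ?_, fun k => funext fun i => ?_, fun w hw => ?_⟩
  · obtain ⟨l, hl⟩ := (ψ i).surjective (k i)
    obtain ⟨l', hl'⟩ := (ψ i).surjective (k' i)
    rw [← hl, ← hl']
    refine congrArg (ψ i) (relπ_injective a _ _ _ fun j => (φ i).injective ?_)
    rw [← hφψ, ← hφψ, hl, hl']
    exact congrFun (congrFun h j) i
  · rw [Finset.sum_apply]
    obtain ⟨l, hl⟩ := (ψ i).surjective (k i)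
    have h1 : ∀ j, (a j • relCh a L n p k j) i = φ i (a j • (relπ a F j).app (cOpen U i) l) := fun j => by
      rw [map_smul, ← hφψ, hl]
      rfl
    simp only [h1, ← map_sum, sum_relπ, map_zero, Pi.zero_apply]
  · have h1 : ∀ i, ∃ l, ∀ j, (relπ a F j).app (cOpen U i) l = (φ i).symm (w j i) := fun i => by
      refine exists_relπ a _ _ ((φ i).injective ?_)
      rw [map_sum, map_zero]
      simp only [map_smul, LinearEquiv.apply_symm_apply]
      have := congrFun hw i
      rwa [Finset.sum_apply] at this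
    choose l hl using h1
    exact ⟨fun i => ψ i (l i), funext fun j => funext fun i => by
      show (Crv77.twistMap (relπ a F j) (CohB1.tensorPow L n)).app (cOpen U i) (ψ i (l i)) = w j i
      rw [hφψ, hl, LinearEquiv.apply_symm_apply]⟩

end Relations

end Groth.Agent.Hilb75

end
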