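import Groth.Agent.Hilb75.Twist
import Groth.Agent.GenFree62.Generic
import Groth.Agent.FlatStage64.TensorModule

/-! Cycles of the twists and base change, uniformly in all points of the base. -/

set_option autoImplicit false
set_option maxSynthPendingDepth 6
set_option synthInstance.maxHeartbeats 200000
set_option linter.style.haveILetI false
set_option backward.isDefEq.respectTransparency.types false

universe u

noncomputable section

open CategoryTheory CategoryTheory.Limits AlgebraicGeometry TopologicalSpace Opposite TensorProduct Function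
open Groth.Agent.Var76.LineBundle

namespace Groth.Agent.Hilb75

open Mum71 Coh69 CechComp71 FF71

section Transport

variable {B : Type u} [CommRing B] {P Q R P' Q' R' : Type u} [AddCommGroup P] [Module B P] [AddCommGroup Q]
  [Module B Q] [AddCommGroup R] [Module B R] [AddCommGroup P'] [Module B P'] [AddCommGroup Q'] [Module B Q']
  [AddCommGroup R'] [Module B R'] {e : P →ₗ[B] Q} {d : Q →ₗ[B] R} {e' : P' →ₗ[B] Q'} {d' : Q' →ₗ[B] R'}
  (α : P ≃ₗ[B] P') (β : Q ≃ₗ[B] Q') (γ : R ≃ₗ[B] R')
  (hαβ : ∀ x, β (e x) = e' (α x)) (hβγ : ∀ x, γ (d x) = d' (β x))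

include hαβ hβγ in
theorem exact_of_equivs (h : Exact e' d') : Exact e d := fun y => by
  constructor
  · intro hy
    obtain ⟨x, hx⟩ := (h (β y)).1 (by rw [← hβγ, hy, map_zero])
    exact ⟨α.symm x, β.injective (by rw [hαβ, LinearEquiv.apply_symm_apply, hx])⟩
  · rintro ⟨x, rfl⟩
    exact γ.injective (by rw [hβγ, hαβ, h.apply_apply_eq_zero, map_zero])

include hαβ hβγ in
theorem uEx_of_equivs (h : UEx e' d') : UEx e d := fun M _ _ =>
  exact_of_equivs (α.lTensor M) (β.lTensor M) (γ.lTensor M)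
    (fun x => by
      show β.toLinearMap.lTensor M (e.lTensor M x) = e'.lTensor M (α.toLinearMap.lTensor M x)
      rw [← LinearMap.comp_apply, ← LinearMap.lTensor_comp, ← LinearMap.comp_apply (e'.lTensor M), ← LinearMap.lTensor_comp,
        show β.toLinearMap ∘ₗ e = e' ∘ₗ α.toLinearMap from LinearMap.ext hαβ])
    (fun x => by
      show γ.toLinearMap.lTensor M (d.lTensor M x) = d'.lTensor M (β.toLinearMap.lTensor M x)
      rw [← LinearMap.comp_apply, ← LinearMap.lTensor_comp, ← LinearMap.comp_apply (d'.lTensor M), ← LinearMap.lTensor_comp,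
        show γ.toLinearMap ∘ₗ d = d' ∘ₗ β.toLinearMap from LinearMap.ext hβγ])
    (h M)

include hβγ in
omit [AddCommGroup P] [Module B P] [AddCommGroup P'] [Module B P'] in
theorem map_ker_eq : (LinearMap.ker d).map (β : Q →ₗ[B] Q') = LinearMap.ker d' := by
  ext y
  constructor
  · rintro ⟨x, hx, rfl⟩
    show d' (β x) = 0
    rw [← hβγ, LinearMap.mem_ker.1 hx, map_zero]
  · intro hy
    exact ⟨β.symm y, γ.injective (by rw [hβγ, LinearEquiv.apply_symm_apply, map_zero]; exact hy),
      β.apply_symm_apply y⟩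

include hαβ hβγ in
theorem finite_quot_of_equivs
    [Module.Finite B (LinearMap.ker d' ⧸ (LinearMap.range e').comap (LinearMap.ker d').subtype)] :
    Module.Finite B (LinearMap.ker d ⧸ (LinearMap.range e).comap (LinearMap.ker d).subtype) := by
  let ε := β.ofSubmodules _ _ (map_ker_eq β γ hβγ)
  refine Module.Finite.equiv (Submodule.Quotient.equiv ((LinearMap.range e).comap (LinearMap.ker d).subtype)
    ((LinearMap.range e').comap (LinearMap.ker d').subtype) ε ?_).symm
  ext z
  constructor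
  · rintro ⟨x, ⟨w, hw⟩, rfl⟩
    exact ⟨α w, (hαβ w).symm.trans (congrArg β hw)⟩
  · rintro ⟨w, hw⟩
    refine ⟨ε.symm z, ⟨α.symm w, β.injective ?_⟩, ε.apply_symm_apply z⟩
    rw [hαβ, LinearEquiv.apply_symm_apply, hw]
    exact (congrArg Subtype.val (ε.apply_symm_apply z)).symm

end Transport

section Cancel

variable {A : Type u} [CommRing A] {P Q R : Type u} [AddCommGroup P] [Module A P] [AddCommGroup Q] [Module A Q]
  [AddCommGroup R] [Module A R] (e : P →ₗ[A] Q) (d : Q →ₗ[A] R)
  (B C : Type u) [CommRing B] [Algebra A B] [CommRing C] [Algebra A C] [Algebra B C] [IsScalarTower A B C]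

theorem cancel_baseChange (z : C ⊗[B] (B ⊗[A] Q)) :
    d.baseChange C (AlgebraTensorModule.cancelBaseChange A B C C Q z) =
      AlgebraTensorModule.cancelBaseChange A B C C R ((d.baseChange B).baseChange C z) := by
  induction z with
  | zero => simp only [map_zero]
  | add x y hx hy => simp only [map_add, hx, hy]
  | tmul c y =>
    induction y with
    | zero => simp only [tmul_zero, map_zero]
    | add x y hx hy => simp only [tmul_add, map_add, hx, hy]
    | tmul b q => simp [AlgebraTensorModule.cancelBaseChange_tmul]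

theorem exact_baseChange_cancel (h : Exact ((e.baseChange B).baseChange C) ((d.baseChange B).baseChange C)) :
    Exact (e.baseChange C) (d.baseChange C) :=
  exact_of_equivs (AlgebraTensorModule.cancelBaseChange A B C C P).symm
    (AlgebraTensorModule.cancelBaseChange A B C C Q).symm (AlgebraTensorModule.cancelBaseChange A B C C R).symm
    (fun x => by rw [LinearEquiv.symm_apply_eq, ← cancel_baseChange, LinearEquiv.apply_symm_apply])
    (fun x => by rw [LinearEquiv.symm_apply_eq, ← cancel_baseChange, LinearEquiv.apply_symm_apply]) h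

/-- A comparison of cycles which is bijective at the closed points is onto. -/
theorem surjective_kerBC_of_fibres [Module.Finite B (LinearMap.ker (d.baseChange B))]
    (h : ∀ m : Ideal B, m.IsMaximal → Bijective (kerBC d (B ⧸ m)) ∧ Bijective (kerBC (d.baseChange B) (B ⧸ m))) :
    Surjective (kerBC d B) := by
  rw [← LinearMap.range_eq_top, ← Submodule.Quotient.subsingleton_iff]
  refine Mum71.subsingleton_of_forall_quotient_tensor (A := B) fun m hm => ?_
  obtain ⟨h1, h2⟩ := h m hm
  let π := (LinearMap.range (kerBC d B)).mkQ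
  haveI : Subsingleton ((B ⧸ m) ⊗[B] (LinearMap.ker (d.baseChange B) ⧸ LinearMap.range (kerBC d B))) := by
    refine subsingleton_of_forall_eq 0 fun z => ?_
    obtain ⟨w, rfl⟩ := LinearMap.lTensor_surjective (B ⧸ m) (Submodule.mkQ_surjective _ : Surjective π) z
    obtain ⟨y, hy⟩ : ∃ y, (kerBC d B).baseChange (B ⧸ m) y = w := by
      let c := AlgebraTensorModule.cancelBaseChange A B (B ⧸ m) (B ⧸ m) Q
      have hmem : c (kerBC (d.baseChange B) (B ⧸ m) w).1 ∈ LinearMap.ker (d.baseChange (B ⧸ m)) := by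
        rw [LinearMap.mem_ker, cancel_baseChange,
          LinearMap.mem_ker.1 (kerBC (d.baseChange B) (B ⧸ m) w).2, map_zero]
      obtain ⟨v, hv⟩ := h1.2 ⟨_, hmem⟩
      obtain ⟨y, rfl⟩ := (AlgebraTensorModule.cancelBaseChange A B (B ⧸ m) (B ⧸ m) (LinearMap.ker d)).surjective v
      have h4 := congrArg Subtype.val hv
      rw [cancel_kerBC] at h4
      exact ⟨y, h2.1 (Subtype.ext (c.injective h4))⟩
    rw [← hy, show ((kerBC d B).baseChange (B ⧸ m) y) = (kerBC d B).lTensor (B ⧸ m) y from rfl,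
      ← LinearMap.comp_apply, ← LinearMap.lTensor_comp,
      show π ∘ₗ kerBC d B = 0 from LinearMap.range_le_ker_iff.1 (by rw [Submodule.ker_mkQ]),
      LinearMap.lTensor_zero, LinearMap.zero_apply]
  exact (TensorProduct.comm B _ (B ⧸ m)).toEquiv.subsingleton

end Cancel

variable {A : Type u} [CommRing A] {X : Scheme.{u}} [X.Over (Spec (CommRingCat.of A))]
  {ι : Type u} [Finite ι] {U : ι → X.Opens}

/-- Standing hypotheses on a cover. -/
structure GoodCover (U : ι → X.Opens) (L : X.Modules) : Prop where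
  top : ⨆ i, U i = ⊤
  affine : ∀ (n : ℕ) (i : Fin (n + 1) → ι), IsAffineOpen (cOpen U i)
  frame : Framed U L

variable {F L : X.Modules}

variable (A) in
/-- The base changed terms of a module are flat. -/
def FlatTerms (U : ι → X.Opens) (F : X.Modules) (B : Type u) [CommRing B] [Algebra A B] : Prop :=
  ∀ (p : ℕ) (k : Fin (p + 1) → ι), Module.Flat B (B ⊗[A] Γ(F, cOpen U k))

variable (A) in
/-- Cycles commute with `B` and the higher cycles are boundaries. -/
def GoodAt (U : ι → X.Opens) (G : X.Modules) (B : Type u) [CommRing B] [Algebra A B] : Prop :=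
  (∀ p, Exact ((cdL A U G p).baseChange B) ((cdL A U G (p + 1)).baseChange B)) ∧
    Bijective (kerBC (cdL A U G 0) B)

section BC

variable (hUL : GoodCover U L) (B : Type u) [CommRing B] [Algebra A B]

include hUL in
theorem exists_bc_data [IsProper (X ↘ Spec (CommRingCat.of A))] (G : X.Modules) [G.IsQuasicoherent] :
    (∀ p, Nat.card ι ≤ p → UEx ((cdL A U G p).baseChange B) ((cdL A U G (p + 1)).baseChange B)) ∧
      (∀ p, Subsingleton (Coh.HH (bc A X B) ((Scheme.Modules.pullback (bcπ A X B)).obj G) (p + 1)) →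
        Exact ((cdL A U G p).baseChange B) ((cdL A U G (p + 1)).baseChange B)) ∧
      (IsNoetherianRing B → Coh.IsCoh ((Scheme.Modules.pullback (bcπ A X B)).obj G) →
        (∀ p, Module.Finite B (LinearMap.ker ((cdL A U G (p + 1)).baseChange B) ⧸
          (LinearMap.range ((cdL A U G p).baseChange B)).comap (LinearMap.ker ((cdL A U G (p + 1)).baseChange B)).subtype)) ∧
        Module.Finite B (LinearMap.ker ((cdL A U G 0).baseChange B))) := by
  have hsq : IsPullback (bcπ A X B) ((bc A X B) ↘ Spec (CommRingCat.of B)) (X ↘ Spec (CommRingCat.of A))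
      (Spec.map (CommRingCat.ofHom (algebraMap A B))) := IsPullback.of_hasPullback _ _
  haveI := isProper_of_sq hsq
  haveI := QCPull72.isQuasicoherent_pullback (bcπ A X B) G
  have hU : ⨆ i, preU (bcπ A X B) U i = ⊤ := by
    show ⨆ i, bcπ A X B ⁻¹ᵁ U i = ⊤
    rw [← Scheme.Hom.preimage_iSup, hUL.top]
    rfl
  haveI := isAffineHom_of_sq hsq
  have hU' : ∀ (n : ℕ) (i : Fin (n + 1) → ι), IsAffineOpen (cOpen (preU (bcπ A X B) U) i) := fun n i => by
    rw [cOpen_preU]
    exact (hUL.affine n i).preimage _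
  obtain ⟨E, hE, -⟩ := exists_bc_equiv hsq (G := G) hUL.affine
  refine ⟨fun p hp => uEx_of_equivs (E p) (E (p + 1)) (E (p + 1 + 1)) (hE p) (hE (p + 1))
      (exists_uEx hU hU' p hp),
    fun p hp => exact_of_equivs (E p) (E (p + 1)) (E (p + 1 + 1)) (hE p) (hE (p + 1))
      ((exact_iff_subsingleton_hh hU hU' p).2 hp), fun hB hG => ⟨fun p => ?_, ?_⟩⟩
  · haveI := hB
    haveI := finite_quot (A := B) hU hU' hG p
    exact finite_quot_of_equivs (E p) (E (p + 1)) (E (p + 1 + 1)) (hE p) (hE (p + 1))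
  · haveI := hB
    haveI := finite_ker (A := B) hU hU' hG
    exact Module.Finite.equiv ((E 0).ofSubmodules _ _ (map_ker_eq (E 0) (E 1) (hE 0))).symm

variable [IsNoetherianRing A] [IsProper (X ↘ Spec (CommRingCat.of A))]
  (hF : Coh.IsCoh F) (hL : CohB1.IsAmple L)

include hUL hF hL in
theorem exists_exact_baseChange [IsNoetherianRing B] : ∃ N, ∀ n, N ≤ n → ∀ p,
    Exact ((cdL A U (tw F L n) p).baseChange B) ((cdL A U (tw F L n) (p + 1)).baseChange B) := by
  haveI : IsLocallyNoetherian X := LocallyOfFiniteType.isLocallyNoetherian (X ↘ Spec (CommRingCat.of A))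
  haveI := hF.1
  haveI := hF.2
  have hsq : IsPullback (bcπ A X B) ((bc A X B) ↘ Spec (CommRingCat.of B)) (X ↘ Spec (CommRingCat.of A))
      (Spec.map (CommRingCat.ofHom (algebraMap A B))) := IsPullback.of_hasPullback _ _
  obtain ⟨N, hN⟩ := exists_vanish_sq hsq (F := F) hL
  refine ⟨N, fun n hn p => ?_⟩
  haveI := (isCoh_tw hF hL.1 n).1
  exact (exists_bc_data hUL B (tw F L n)).2.1 p (hN n hn (p + 1) (by omega))

include hUL hF hL in
/-- Eventually cycles commute with a quotient. -/
theorem exists_bijective_kerBC_quotient {m : ℕ} (a : Fin m → A) : ∃ N, ∀ n, N ≤ n →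
    Bijective (kerBC (cdL A U (tw F L n) 0) (A ⧸ Ideal.span (Set.range a))) := by
  haveI : IsLocallyNoetherian X := LocallyOfFiniteType.isLocallyNoetherian (X ↘ Spec (CommRingCat.of A))
  obtain ⟨N₁, hN₁⟩ := RB70.exists_vanishing_ample (X ↘ Spec (CommRingCat.of A)) hL F hF
  obtain ⟨N₂, hN₂⟩ := RB70.exists_vanishing_ample (X ↘ Spec (CommRingCat.of A)) hL (relMod a F) (isCoh_relMod a hF)
  refine ⟨max N₁ N₂, fun n hn => ?_⟩
  haveI := (isCoh_tw hF hL.1 n).1
  haveI := (isCoh_tw (isCoh_relMod a hF) hL.1 n).1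
  have hG := fun p => (exact_iff_subsingleton_hh (A := A) (G := tw F L n) hUL.top hUL.affine p).2
    (hN₁ n (le_of_max_le_left hn) (p + 1) (by omega))
  have hK := fun p => (exact_iff_subsingleton_hh (A := A) (G := tw (relMod a F) L n) hUL.top hUL.affine p).2
    (hN₂ n (le_of_max_le_right hn) (p + 1) (by omega))
  obtain ⟨-, hs₀, -⟩ := relCh_spec (F := F) a n hUL.frame 0
  obtain ⟨-, hs₁, hr₁⟩ := relCh_spec (F := F) a n hUL.frame 1
  obtain ⟨hinj₂, -, hr₂⟩ := relCh_spec (F := F) a n hUL.frame 2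
  obtain ⟨hinj₃, -, -⟩ := relCh_spec (F := F) a n hUL.frame 3
  refine bijective_kerBC_quotient a (cdL A U (tw F L n) 0) (cdL A U (tw F L n) 1) (hG 0)
    (cdL A U (tw (relMod a F) L n) 0) (cdL A U (tw (relMod a F) L n) 1) (cdL A U (tw (relMod a F) L n) 2)
    (hK 0) (hK 1) (relCh a L n 0) (relCh a L n 1) (relCh a L n 2) hr₁ hr₂ hs₀ hs₁ hinj₂
    (fun k ⟨w, hw⟩ => hinj₃ (funext fun j => ?_)) (relCh_cdL a L n 0) (relCh_cdL a L n 1)
  rw [relCh_cdL, hw, map_zero, Pi.zero_apply]
  exact LinearMap.congr_fun (cdL_comp 1) (w j)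

variable {B}

include hUL in
omit [IsNoetherianRing A] in
theorem flat_twist (hft : FlatTerms A U F B) (n p : ℕ) : Module.Flat B (B ⊗[A] Ch U (tw F L n) p) :=
  flat_twist_terms hUL.frame n B p (hft p)

include hUL hF hL in
theorem goodAt_of_flat_stratum (K : Type u) [CommRing K] [Algebra A K] [Algebra B K] [IsScalarTower A B K]
    (n : ℕ) (hft : FlatTerms A U F B)
    (hex : ∀ p, Exact ((cdL A U (tw F L n) p).baseChange B) ((cdL A U (tw F L n) (p + 1)).baseChange B))
    (hker : Bijective (kerBC (cdL A U (tw F L n) 0) B)) : GoodAt A U (tw F L n) K := by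
  haveI : IsLocallyNoetherian X := LocallyOfFiniteType.isLocallyNoetherian (X ↘ Spec (CommRingCat.of A))
  haveI := (isCoh_tw hF hL.1 n).1
  haveI : ∀ p, Module.Flat B (B ⊗[A] Ch U (tw F L n) p) := flat_twist hUL hft n
  have hu := uEx_of_exact_seq (X := fun p => B ⊗[A] Ch U (tw F L n) p)
    (fun p => (cdL A U (tw F L n) p).baseChange B) (Nat.card ι) (exists_bc_data hUL B (tw F L n)).1 hex
  haveI := flat_coker_of_uEx _ _ (hu 0)
  exact ⟨fun p => exact_baseChange_cancel _ _ B K (hu p K),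
    bijective_kerBC_trans _ B K hker (bijective_kerBC_of_flat_coker _ K)⟩

include hUL hF in
omit hL in
/-- Generic flatness. -/
theorem exists_flatTerms (J : Ideal A) [J.IsPrime] : ∃ f : A ⧸ J, f ≠ 0 ∧
    FlatTerms A U F (Localization.Away f) := by
  classical
  haveI := hF.1
  haveI := hF.2
  let 𝒲 : Set X.Opens := Set.range fun i : Σ p, Fin (p + 1) → ι => cOpen U i.2
  have h𝒲 : 𝒲.Finite := by
    refine (Set.finite_range fun s : Set ι => (⨅ i ∈ s, U i : X.Opens)).subset ?_
    rintro _ ⟨⟨p, k⟩, rfl⟩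
    exact ⟨Set.range k, le_antisymm (le_cOpen U fun j => iInf₂_le (k j) ⟨j, rfl⟩)
      (le_iInf₂ fun i ⟨j, hj⟩ => hj ▸ cOpen_le U k j)⟩
  haveI := h𝒲.to_subtype
  letI := Fintype.ofFinite 𝒲
  have hW : ∀ W : 𝒲, ∃ f : A ⧸ J, f ≠ 0 ∧ GenFree62.FreeAway f ((A ⧸ J) ⊗[A] Γ(F, W.1)) := by
    rintro ⟨_, ⟨p, k⟩, rfl⟩
    let W := cOpen U k
    have hWa : IsAffineOpen W := hUL.affine p k
    letI : Algebra A Γ(X, W) := (rA A X W).toAlgebra
    haveI : IsScalarTower A Γ(X, W) Γ(F, W) := IsScalarTower.of_algebraMap_smul fun _ _ => rfl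
    haveI : Algebra.FiniteType A Γ(X, W) := by
      have h := ((X ↘ Spec (CommRingCat.of A)).finiteType_appLE (isAffineOpen_top _) hWa le_top).comp
        (RingHom.FiniteType.of_surjective (Scheme.ΓSpecIso (CommRingCat.of A)).inv.hom
          (ConcreteCategory.bijective_of_isIso (Scheme.ΓSpecIso (CommRingCat.of A)).inv).2)
      rw [← CommRingCat.hom_comp, ← rA_eq_appLE] at h
      exact h
    haveI := QC70.finite_sections_of_isFiniteType F hWa
    letI := FlatStage64.tensorModule A (A ⧸ J) Γ(X, W) Γ(F, W)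
    haveI := FlatStage64.isScalarTower_tensorModule A (A ⧸ J) Γ(X, W) Γ(F, W)
    haveI := FlatStage64.finite_tensorModule A (A ⧸ J) Γ(X, W) Γ(F, W)
    exact GenFree62.exists_freeAway (A := A ⧸ J) (B := (A ⧸ J) ⊗[A] Γ(X, W)) (M := (A ⧸ J) ⊗[A] Γ(F, W))
  choose f hf0 hfree using hW
  refine ⟨∏ W, f W, Finset.prod_ne_zero_iff.2 fun W _ => hf0 W, fun p k => ?_⟩
  let W : 𝒲 := ⟨cOpen U k, ⟨⟨p, k⟩, rfl⟩⟩
  haveI := (hfree W).of_dvd (Finset.dvd_prod_of_mem f (Finset.mem_univ W)) (Localization.Away (∏ W, f W))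
    (IsLocalization.Away.algebraMap_isUnit _)
  exact Module.Flat.of_linearEquiv (AlgebraTensorModule.cancelBaseChange A (A ⧸ J) (Localization.Away (∏ W, f W))
    (Localization.Away (∏ W, f W)) Γ(F, cOpen U k)).symm

include hUL hF hL in
theorem exists_goodAt_stratum (J : Ideal A) [J.IsPrime] : ∃ f ∉ J, ∃ N, ∀ n, N ≤ n →
    ∀ (K : Type u) [Field K] [Algebra A K], J ≤ RingHom.ker (algebraMap A K) → algebraMap A K f ≠ 0 →
      GoodAt A U (tw F L n) K := by
  obtain ⟨f', hf', hft⟩ := exists_flatTerms hUL hF J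
  obtain ⟨f, rfl⟩ := Ideal.Quotient.mk_surjective f'
  let B := Localization.Away (Ideal.Quotient.mk J f)
  haveI : IsNoetherianRing B :=
    IsLocalization.isNoetherianRing (Submonoid.powers (Ideal.Quotient.mk J f)) B inferInstance
  haveI : Module.Flat (A ⧸ J) B := IsLocalization.flat B (Submonoid.powers (Ideal.Quotient.mk J f))
  obtain ⟨m, a, ha⟩ := Submodule.fg_iff_exists_fin_generating_family.1 (IsNoetherian.noetherian J)
  obtain ⟨N₁, hN₁⟩ := exists_exact_baseChange (A := A) hUL B hF hL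
  obtain ⟨N₂, hN₂⟩ := exists_bijective_kerBC_quotient hUL hF hL a
  refine ⟨f, fun h => hf' (Ideal.Quotient.eq_zero_iff_mem.2 h), max N₁ N₂, fun n hn K _ _ hJ hfK => ?_⟩
  have h2 := hN₂ n (le_of_max_le_right hn)
  rw [show Ideal.span (Set.range a) = J from ha] at h2
  let ψ : A ⧸ J →+* K := Ideal.Quotient.lift J (algebraMap A K) fun x hx => hJ hx
  let φ : B →+* K := IsLocalization.Away.lift (Ideal.Quotient.mk J f) (g := ψ) (isUnit_iff_ne_zero.2 hfK)
  letI := φ.toAlgebra
  haveI : IsScalarTower A B K := IsScalarTower.of_algebraMap_eq fun x => by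
    rw [IsScalarTower.algebraMap_apply A (A ⧸ J) B]
    rw [RingHom.algebraMap_toAlgebra]
    refine Eq.trans ?_ (IsLocalization.Away.lift_eq (S := B) (g := ψ) (Ideal.Quotient.mk J f) (isUnit_iff_ne_zero.2 hfK) _).symm
    exact (Ideal.Quotient.lift_mk J (algebraMap A K) _).symm
  exact goodAt_of_flat_stratum (A := A) hUL hF hL K n hft (hN₁ n (le_of_max_le_left hn))
    (bijective_kerBC_trans _ (A ⧸ J) B h2 (bijective_kerBC_of_flat _ B))

include hUL hF hL in
/-- For large twists cycles commute with all residue fields. -/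
theorem exists_goodAt : ∃ N, ∀ n, N ≤ n → ∀ (K : Type u) [Field K] [Algebra A K], GoodAt A U (tw F L n) K := by
  suffices h : ∀ J : Ideal A, ∃ N, ∀ n, N ≤ n → ∀ (K : Type u) [Field K] [Algebra A K],
      J ≤ RingHom.ker (algebraMap A K) → GoodAt A U (tw F L n) K by
    obtain ⟨N, hN⟩ := h ⊥
    exact ⟨N, fun n hn K _ _ => hN n hn K bot_le⟩
  intro J
  induction J using WellFoundedGT.induction with
  | _ J ih =>
  have hlt : ∀ c ∉ J, J < J ⊔ Ideal.span {c} := fun c hc =>
    lt_of_le_of_ne le_sup_left fun e => hc (e ▸ Ideal.mem_sup_right (Ideal.mem_span_singleton_self c))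
  by_cases hJ : J.IsPrime
  · obtain ⟨f, hf, N₁, hN₁⟩ := exists_goodAt_stratum hUL hF hL J
    obtain ⟨N₂, hN₂⟩ := ih _ (hlt f hf)
    refine ⟨max N₁ N₂, fun n hn K _ _ hK => ?_⟩
    by_cases hfK : algebraMap A K f = 0
    · exact hN₂ n (le_of_max_le_right hn) K (sup_le hK ((Ideal.span_singleton_le_iff_mem _).2 hfK))
    · exact hN₁ n (le_of_max_le_left hn) K hK hfK
  · by_cases htop : J = ⊤
    · exact ⟨0, fun n _ K _ _ hK =>
        absurd (RingHom.mem_ker.1 (hK (htop ▸ Submodule.mem_top : (1 : A) ∈ J))) (by rw [map_one]; exact one_ne_zero)⟩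
    obtain ⟨a, ha, b, hb, hab⟩ : ∃ a ∉ J, ∃ b ∉ J, a * b ∈ J := by
      simp only [Ideal.isPrime_iff, not_and, not_forall] at hJ
      obtain ⟨a, b, hab, h⟩ := hJ htop
      push Not at h
      exact ⟨a, h.1, b, h.2, hab⟩
    obtain ⟨N₁, hN₁⟩ := ih _ (hlt a ha)
    obtain ⟨N₂, hN₂⟩ := ih _ (hlt b hb)
    refine ⟨max N₁ N₂, fun n hn K _ _ hK => ?_⟩
    have h := hK hab
    rw [RingHom.mem_ker, map_mul, mul_eq_zero] at h
    rcases h with h | h
    · exact hN₁ n (le_of_max_le_left hn) K (sup_le hK ((Ideal.span_singleton_le_iff_mem _).2 h))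
    · exact hN₂ n (le_of_max_le_right hn) K (sup_le hK ((Ideal.span_singleton_le_iff_mem _).2 h))

include hUL hF hL in
/-- Over any Noetherian algebra with flat terms the twists above the bound behave. -/
theorem flat_algebra_spec [IsNoetherianRing B] (hft : FlatTerms A U F B) (n : ℕ)
    (hK : ∀ (K : Type u) [Field K] [Algebra A K], GoodAt A U (tw F L n) K) :
    (∀ p, UEx ((cdL A U (tw F L n) p).baseChange B) ((cdL A U (tw F L n) (p + 1)).baseChange B)) ∧
      Module.Finite B (LinearMap.ker ((cdL A U (tw F L n) 0).baseChange B)) ∧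
      Module.Flat B (LinearMap.ker ((cdL A U (tw F L n) 0).baseChange B)) ∧
      Surjective (kerBC (cdL A U (tw F L n) 0) B) := by
  haveI : IsLocallyNoetherian X := LocallyOfFiniteType.isLocallyNoetherian (X ↘ Spec (CommRingCat.of A))
  have hcoh := isCoh_tw hF hL.1 n
  haveI := hcoh.1
  haveI := hcoh.2
  obtain ⟨hhigh, -, hfin⟩ := exists_bc_data (A := A) hUL B (tw F L n)
  obtain ⟨hfinq, hfink⟩ := hfin inferInstance
    ⟨QCPull72.isQuasicoherent_pullback _ _, QCPull72.isFiniteType_pullback _ _⟩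
  haveI : ∀ p, Module.Flat B (B ⊗[A] Ch U (tw F L n) p) := flat_twist hUL hft n
  have hu := uEx_of_fibre (X := fun p => B ⊗[A] Ch U (tw F L n) p)
    (fun p => (cdL A U (tw F L n) p).baseChange B)
    (fun p => by rw [← LinearMap.baseChange_comp, cdL_comp, LinearMap.baseChange_zero])
    (Nat.card ι) hhigh hfinq (fun p m hm => by
      letI := Ideal.Quotient.field m
      show Exact (((cdL A U (tw F L n) p).baseChange B).baseChange (B ⧸ m))
        (((cdL A U (tw F L n) (p + 1)).baseChange B).baseChange (B ⧸ m))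
      exact exact_of_equivs (AlgebraTensorModule.cancelBaseChange A B (B ⧸ m) (B ⧸ m) _)
        (AlgebraTensorModule.cancelBaseChange A B (B ⧸ m) (B ⧸ m) _)
        (AlgebraTensorModule.cancelBaseChange A B (B ⧸ m) (B ⧸ m) _)
        (fun x => (cancel_baseChange _ B (B ⧸ m) x).symm) (fun x => (cancel_baseChange _ B (B ⧸ m) x).symm)
        ((hK (B ⧸ m)).1 p))
  haveI := flat_coker_of_uEx _ _ (hu 0)
  haveI := hfink
  refine ⟨hu, hfink, flat_ker _, surjective_kerBC_of_fibres _ B fun m hm => ?_⟩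
  letI := Ideal.Quotient.field m
  exact ⟨(hK (B ⧸ m)).2, bijective_kerBC_of_flat_coker _ _⟩

end BC

end Groth.Agent.Hilb75

end
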